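import Cfsg.Agent.LeechModel.Basic

/-! Points, generators and transversals of the permutation model. -/

set_option autoImplicit false
set_option maxRecDepth 100000
set_option linter.all false

namespace Cfsg.Agent.HigSims.Model

open Cfsg.Agent.Leech Cfsg.Agent.StemCert

/-- The packed coordinates of the points. -/
def pts : List ℕ := [0x8888888888888888888888440000,
  0x8888868868888888868666660001,
  0x6888886886888888886866660002,
  0x8686888888888886688866660003,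
  0x8888688888668868888866660004,
  0x8868888688886688888866660005,
  0x8866888888868888886686660006,
  0x8888888886886868688686660007,
  0x8888686888888686888686660008,
  0x6688888688688888888686660009,
  0x888888868888886686688666000a,
  0x888886888868868868688666000b,
  0x868868886888688888688666000c,
  0x686868888888888866888666000d,
  0x868888888686868886888666000e,
  0x888688688868688886888666000f,
  0x8888886668868888688886660010,
  0x6888868888866886888886660011,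
  0x8868888866688886888886660012,
  0x6886888868888668888886660013,
  0x8668866888888868888886660014,
  0x8886668686888888888886660015,
  0x8688888888888668886668660016,
  0x8868886888688888688668660017,
  0x8888888686868886888668660018,
  0x6886688888886888888668660019,
  0x888888888886688866686866001a,
  0x886866888888888688686866001b,
  0x888688866868888888686866001c,
  0x688888888868868686886866001d,
  0x886688888688886886886866001e,
  0x868868668888888886886866001f,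
  0x6888868688888868688868660020,
  0x8888688866888688688868660021,
  0x8888886868886866888868660022,
  0x8886866888868688888868660023,
  0x8688868886686888888868660024,
  0x6668888868868888888868660025,
  0x8888688886688888866688660026,
  0x6888888868888886686688660027,
  0x8888866688886888886688660028,
  0x8886888688888688668688660029,
  0x866888888888688686868866002a,
  0x688888688886886886868866002b,
  0x868866888886888868868866002c,
  0x888686888868886688868866002d,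
  0x886868866888886888868866002e,
  0x888888886866668888868866002f,
  0x6868868886888688888688660030,
  0x8686886866888888888688660031,
  0x8868886868888688866888660032,
  0x6686868888888888866888660033,
  0x8886686888888868686888660034,
  0x8668888686888888686888660035,
  0x8886888886886686886888660036,
  0x8688886888668886886888660037,
  0x6868888888686868886888660038,
  0x8888868866868868886888660039,
  0x688868868886868888688866003a,
  0x888886688688888666888866003b,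
  0x868888886868886866888866003c,
  0x888668886886888686888866003d,
  0x888866888888666886888866003e,
  0x688888866688688886888866003f,
  0x8868868688668888868888660040,
  0x8868888888868666688888660041,
  0x8888688688686886688888660042,
  0x6688886888886688688888660043,
  0x8866868868886888688888660044,
  0x6886888886668888688888660045,
  0x6688688886888866888888660046,
  0x8688868668888686888888660047,
  0x6866886688888886888888660048,
  0x8888886686688668888888660049,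
  0x868688868886686888888866004a,
  0x866668888868868888888866004b,
  0x886868688686688888888866004c,
  0x688866686868888888888866004d,
  0xb77777777777777777777777004e,
  0x7b7777777777777777777777004f,
  0x77b7777777777777777777770050,
  0x777b777777777777777777770051,
  0x7777b77777777777777777770052,
  0x77777b7777777777777777770053,
  0x777777b777777777777777770054,
  0x7777777b77777777777777770055,
  0x77777777b7777777777777770056,
  0x777777777b777777777777770057,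
  0x7777777777b77777777777770058,
  0x77777777777b7777777777770059,
  0x777777777777b77777777777005a,
  0x7777777777777b7777777777005b,
  0x77777777777777b777777777005c,
  0x777777777777777b77777777005d,
  0x7777777777777777b7777777005e,
  0x77777777777777777b777777005f,
  0x777777777777777777b777770060,
  0x7777777777777777777b77770061,
  0x77777777777777777777b7770062,
  0x777777777777777777777b770063]

/-- A generator. -/
def a0 : LGen := monGen [0,1,10,9,8,4,12,6,11,13,20,23,17,16,3,21,15,5,7,14,19,2,18,22]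
  [0,1,21,14,5,17,7,18,4,3,2,8,6,9,19,16,13,12,22,20,10,15,23,11] 0 (by decide +kernel) (by decide +kernel) (by decide +kernel) (by decide +kernel)
  (by decide +kernel)

/-- A generator. -/
def a1 : LGen := monGen [0,1,7,20,13,4,23,11,15,8,9,19,3,2,16,12,5,6,14,22,21,17,18,10]
  [0,1,13,12,5,16,17,2,9,10,23,7,15,4,18,8,14,21,22,11,3,20,19,6] 0 (by decide +kernel) (by decide +kernel) (by decide +kernel) (by decide +kernel)
  (by decide +kernel)

/-- A generator. -/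
def a2 : LGen := monGen [0,1,14,21,15,3,13,4,18,22,12,17,7,16,20,2,11,9,8,5,10,19,23,6]
  [0,1,15,5,7,19,23,12,18,17,20,16,10,6,2,4,13,11,8,21,14,3,9,22] 0 (by decide +kernel) (by decide +kernel) (by decide +kernel) (by decide +kernel)
  (by decide +kernel)

/-- A sextet. -/
def sext3 : Sextet where
  lab i := Fin.ofNat 6 ([0,0,1,1,2,0,2,3,4,5,4,4,5,2,0,5,3,1,5,2,4,3,3,1].getD (idx i) 0)
  card_fib := by decide +kernel
  pair k := (mem_iff _).2 (by revert k; decide +kernel)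

/-- A reflection. -/
def xi3 : LGen := xiGen sext3 [0,0,1,1,2,0,2,3,4,5,4,4,5,2,0,5,3,1,5,2,4,3,3,1] (by decide +kernel)

/-- A sign change. -/
def sg3 : LGen := monGen [0,1,2,3,4,5,6,7,8,9,10,11,12,13,14,15,16,17,18,19,20,21,22,23]
  [0,1,2,3,4,5,6,7,8,9,10,11,12,13,14,15,16,17,18,19,20,21,22,23] 11114125 (by decide +kernel) (by decide +kernel) (by decide +kernel) (by decide +kernel)
  (by decide +kernel)

/-- A permutation of coordinates. -/
def pm3 : LGen := monGen [0,19,20,3,21,5,2,7,13,8,1,4,16,9,14,15,23,22,17,10,6,11,18,12]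
  [0,10,6,3,11,5,20,7,9,13,19,21,23,8,14,15,12,18,22,1,2,4,17,16] 0 (by decide +kernel) (by decide +kernel) (by decide +kernel) (by decide +kernel)
  (by decide +kernel)

/-- A generator. -/
def a3 : LGen := sg3.comp (xi3.comp (pm3.comp (xi3.comp sg3)))

/-- The lattice generators. -/
def gensL : List LGen := [a0, a1, a2, a3]

/-- The codes of the lattice generators. -/
def baseCodes : List ℕ := [0xa15f054bd4f0e2c776fdca556c599f46dd69d6a53d267422f1265f4722b40bc840d4a0583cfa256226a38641d0c1470b33349c5b750d1fc61c60aa48a843c962edb26720a5a50ab95408236248285dc0636c891e6131a80,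
  0xb167055a98ee5b9d7ab61a776bd09f6b151a57d544328581e8cf80831a1c9b1770d10828fe3a95c80a853f20db34ed8b0c64d013514a1eac4b0488e988d5989440d390ce924b3ab5e122f347c2132533816722af0901b80,
  0xad82f529d669d4a356ddfc786c5abb42be2b93d5053d247a45a50718950119d132182b232c41f7c5424c8c64383525ddc186822c25834b0a6ca033770099a636e9a8b34d092262063af7e4d2ae7b35e442084e327231380,
  0x3e26d60a30104d28940ddaeade0d096c82c5c5e3c93b58c5eb83a359a0229c82aa658362e9a8a6e98116667123f8415543943cca818030bbc7390d84679e9b64d1f4c4469852a84b15f5b1498b4e188af0ee27c1aae6236]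

/-- The strong generators as words. -/
def strongWords : List (List ℕ) := [[0],
  [3,3,3,3,2,2,2,1,3,3,3,1,1,3,0,3,3,0,3,2,0,2,3,2,2,2,2,2,2,2],
  [2,2,2,2,2,2,2,0,2,0,0,2,2,2,2,2,2,2,0,2,0,0],
  [0,2,2,2,0,2,2,2,0,2,2,2],
  [2,2,2,2,2,2,2,0,2,0,0],
  [2,3,2,2,2,2,2,2,2],
  [2,2,1,0]]

/-- The codes of the strong generators. -/
def codes : List ℕ := [0xa15f054bd4f0e2c776fdca556c599f46dd69d6a53d267422f1265f4722b40bc840d4a0583cfa256226a38641d0c1470b33349c5b750d1fc61c60aa48a843c962edb26720a5a50ab95408236248285dc0636c891e6131a80,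
  0xc58f0d4a73e8dba572855c15accebf6af58bb5dfb88505d457ad9abc8d2a5c072fa247673194990d1bc377353a65cbd4aa60b562b62a090a1a4c60e222ca901e503861220d1d4270f25406d2223e8cc192c5c2050608080,
  0xc78afe0c33e8d9b56ee52af4e854ad62ed5bd3a6c985066488916347872e52e60bd6ac62e1cba68d9ab74ea1dbf7d01ebc56a55326699021448d2252e60c9b3858e9e3e689102254994101c48b181868f1c282840608080,
  0xc78b0d7bf467d9ab42e52c15adcea762f5abb526b88505d438edda44912e53e6501e3d6725ccc8cd5b4576fd3a85cbd62d56a94b0629911b4094e233a68fa14878b9632605912030a131a287922a384090c1c2840608080,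
  0xc58e9d7ad42dd2a376c5cc186f54bf66d4fab395b79509a4352e9c2a91065bc4ef57ae651534692d9acc7ec54335ab1f409b1e23b60e448a1e2030d20309871c4888b2854d1f3258e9744712983c8502336901840a08080,
  0xc7061bca7559174e94eab5ee0b2a6f49151355d0b4978b0c5c119aa9930a54476f96474132c36bf5a43a608ed1e9cf6a2e72b604f306d8d9bb40fbf9acd25c32a135b39786931c0c39016500080a44904141878c1208095,
  0xc74efe0c3528519d6aad7b15acdec54ae5d9f6d0c28d2a2c14b2e4a287324185e657312ee8e366ae1bb42c9de1d7ef4f1f52a959a649a3a441126a358b583936a1f4076cc20326482900e2440c041870d1e28895282c080]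

/-- The base. -/
def base : List ℕ := [1,2,0,3,6]

/-- Transversal 0. -/
def words0 : Arr (List ℕ) :=
  (.node [] (.node [0] (.node [1,0] (.node [1,0,0] (.node [5,3,0] (.node [0,5,0,0] (.node [3,2,1,0,0] .nil .nil) (.node [0,5,0,5,0] .nil .nil)) (.node [3,0,3,0] (.node [3,2,5,0,0] .nil .nil) .nil)) (.node [5,0,0,0] (.node [5,2,1,0] (.node [6,5,1,0,0] .nil .nil) .nil) (.node [5,0,5,0] (.node [1,0,5,1,0] .nil .nil) .nil))) (.node [3,1,0] (.node [3,5,0] (.node [4,5,0,0] (.node [4,3,1,0,0] .nil .nil) (.node [4,2,6,4,0,0] .nil .nil)) (.node [0,0,5,0] (.node [5,0,2,1,0] .nil .nil) .nil)) (.node [4,1,0,0] (.node [5,4,1,0] (.node [0,6,4,0,0] .nil .nil) .nil) (.node [0,5,0,0,0] (.node [4,6,0,3,0] .nil .nil) .nil)))) (.node [5,0] (.node [5,0,0] (.node [0,5,0] (.node [2,5,0,0] (.node [5,2,1,0,0] .nil .nil) (.node [6,4,3,1,0,0] .nil .nil)) (.node [0,5,3,0] (.node [5,3,5,0,0] .nil .nil) .nil)) (.node [2,1,0,0] (.node [6,3,1,0] (.node [2,0,4,0,0]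 .nil .nil) .nil) (.node [0,0,0,0,0] (.node [4,0,5,1,0] .nil .nil) .nil))) (.node [5,1,0] (.node [0,0,0,0] (.node [0,2,1,0] (.node [0,5,1,0,0] .nil .nil) .nil) (.node [2,0,5,0] (.node [1,0,4,1,0] .nil .nil) .nil)) (.node [0,4,0,0] (.node [1,5,1,0] (.node [4,6,4,0,0] .nil .nil) .nil) (.node [4,1,1,0,0] (.node [3,0,5,3,0] .nil .nil) .nil))))) (.node [0,0] (.node [3,0] (.node [4,0,0] (.node [6,3,0] (.node [1,5,0,0] (.node [4,2,1,0,0] .nil .nil) (.node [0,0,5,0,0,0] .nil .nil)) (.node [6,0,3,0] (.node [5,2,5,0,0] .nil .nil) .nil)) (.node [1,1,0,0] (.node [0,3,1,0] (.node [1,0,4,0,0] .nil .nil) .nil) (.node [0,3,5,0] (.node [3,0,5,1,0] .nil .nil) .nil))) (.node [4,1,0] (.node [6,5,0] (.node [5,5,0,0] (.node [5,4,1,0,0] .nil .nil) .nil) (.node [1,0,5,0] (.node [0,4,2,1,0] .nil .nil) .nil)) (.node [5,1,0,0] (.node [0,5,1,0] (.node [2,6,4,0,0] .nil .nil) .nil) (.node [1,5,0,0,0] (.node [5,6,0,3,0] .nil .nil) .nil)))) (.node [0,0,0] (.node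 [2,1,0] (.node [1,5,0] (.node [3,5,0,0] (.node [0,3,1,0,0] .nil .nil) (.node [0,2,0,4,0,0] .nil .nil)) (.node [0,6,3,0] (.node [0,0,2,1,0] .nil .nil) .nil)) (.node [3,1,0,0] (.node [0,4,1,0] (.node [4,0,4,0,0] .nil .nil) .nil) (.node [4,0,0,0,0] (.node [6,0,5,1,0] .nil .nil) .nil))) (.node [0,3,0] (.node [4,0,0,0] (.node [4,2,1,0] (.node [5,5,1,0,0] .nil .nil) .nil) (.node [4,0,5,0] (.node [0,5,4,1,0] .nil .nil) .nil)) (.node [6,4,0,0] (.node [2,0,3,0] (.node [5,6,4,0,0] .nil .nil) .nil) (.node [5,1,1,0,0] (.node [0,2,0,5,0] .nil .nil) .nil))))))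

/-- Transversal 1. -/
def words1 : Arr (List ℕ) :=
  (.node [] (.node [6] (.node [2,6] (.node [1,1,6] (.node [4,2,6] (.node [5,3,1,6] (.node [5,5,3,1,6] .nil .nil) .nil) (.node [5,1,3,6] .nil .nil)) (.node [5,5,6] (.node [4,6,1,6] (.node [5,5,1,2,6] .nil .nil) .nil) (.node [5,2,1,1,6] .nil .nil))) (.node [5,1,6] (.node [6,3,6] (.node [4,5,1,6] (.node [1,5,1,2,6] .nil .nil) .nil) (.node [2,6,4,6] .nil .nil)) (.node [1,2,1,6] (.node [6,1,2,6] (.node [5,6,1,4,1,6] .nil .nil) .nil) (.node [5,5,2,1,6] .nil .nil)))) (.node [4,6] (.node [3,1,6] (.node [1,3,6] (.node [1,4,1,6] (.node [6,1,5,1,6] .nil .nil) .nil) (.node [2,5,4,6] .nil .nil)) (.node [3,1,1,6] (.node [2,1,2,6] (.node [1,5,4,2,6] .nil .nil) .nil) (.node [5,5,1,1,6] .nil .nil))) (.node [1,2,6] (.node [6,4,6] (.node [1,6,1,6] (.node [3,5,1,2,6] .nil .nil) .nil) (.node [5,6,4,6] .nil .nil)) (.node [5,2,1,6] (.node [1,4,2,6] .nil .nil) (.node [2,6,2,1,6] .nil .nil))))) (.node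 [1,6] (.node [3,6] (.node [2,1,6] (.node [5,2,6] (.node [6,3,1,6] (.node [6,1,4,1,6] .nil .nil) .nil) (.node [5,5,3,6] .nil .nil)) (.node [2,1,1,6] (.node [5,6,1,6] (.node [5,4,3,2,6] .nil .nil) .nil) (.node [4,5,1,1,6] .nil .nil))) (.node [6,1,6] (.node [5,4,6] (.node [5,5,1,6] (.node [2,5,1,2,6] .nil .nil) .nil) (.node [4,6,4,6] .nil .nil)) (.node [3,2,1,6] (.node [4,3,2,6] (.node [6,1,5,1,2,6] .nil .nil) .nil) (.node [6,5,2,1,6] .nil .nil)))) (.node [5,6] (.node [4,1,6] (.node [5,3,6] (.node [1,5,1,6] (.node [5,2,1,2,6] .nil .nil) .nil) (.node [1,6,4,6] .nil .nil)) (.node [5,1,1,6] (.node [5,1,2,6] (.node [6,5,4,2,6] .nil .nil) .nil) (.node [5,3,2,1,6] .nil .nil))) (.node [3,2,6] (.node [4,5,6] (.node [2,6,1,6] (.node [4,5,1,2,6] .nil .nil) .nil) (.node [1,5,5,6] .nil .nil)) (.node [6,2,1,6] (.node [5,4,2,6] .nil .nil) (.node [4,6,2,1,6] .nil .nil))))))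

/-- Transversal 2. -/
def words2 : Arr (List ℕ) :=
  (.node [] (.node [5] (.node [2,5] (.node [2,1,5] (.node [1,5,5] (.node [5,5,1,5] .nil .nil) (.node [1,3,2,1,5] .nil .nil)) (.node [1,2,1,5] (.node [1,5,3,5] .nil .nil) (.node [1,3,5,1,5] .nil .nil))) (.node [3,2,5] (.node [1,1,1,5] (.node [5,1,2,5] .nil .nil) (.node [5,5,2,1,5] .nil .nil)) (.node [1,5,1,5] (.node [5,4,5,5] .nil .nil) (.node [5,5,4,5,5] .nil .nil)))) (.node [5,5] (.node [5,1,5] (.node [3,5,5] (.node [3,1,2,5] .nil .nil) (.node [3,5,2,1,5] .nil .nil)) (.node [5,2,1,5] (.node [5,1,5,5] .nil .nil) (.node [4,5,1,2,5] .nil .nil))) (.node [1,3,5] (.node [3,1,1,5] (.node [2,1,3,5] .nil .nil) (.node [4,5,3,1,5] .nil .nil)) (.node [3,5,1,5] (.node [5,5,1,1,5] .nil .nil) .nil)))) (.node [1,5] (.node [3,5] (.node [3,1,5] (.node [2,5,5] (.node [2,1,2,5] .nil .nil) (.node [5,3,2,1,5] .nil .nil)) (.node [3,2,1,5] (.node [1,1,5,5] .nil .nil) (.node [1,5,5,1,5] .nil .nil)))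 (.node [5,2,5] (.node [2,1,1,5] (.node [1,3,2,5] .nil .nil) (.node [2,5,3,1,5] .nil .nil)) (.node [2,5,1,5] (.node [2,1,1,1,5] .nil .nil) .nil))) (.node [1,1,5] (.node [1,2,5] (.node [4,5,5] (.node [4,1,2,5] .nil .nil) (.node [4,5,2,1,5] .nil .nil)) (.node [5,3,1,5] (.node [4,2,5,5] .nil .nil) (.node [4,5,1,5,5] .nil .nil))) (.node [5,3,5] (.node [5,1,1,5] (.node [5,1,3,5] .nil .nil) (.node [5,1,5,1,5] .nil .nil)) (.node [4,5,1,5] (.node [4,1,2,1,5] .nil .nil) .nil)))))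

/-- Transversal 3. -/
def words3 : Arr (List ℕ) :=
  (.node [] (.node [4] .nil .nil) (.node [1,4] .nil .nil))

/-- Transversal 4. -/
def words4 : Arr (List ℕ) :=
  (.node [] (.node [1] (.node [3] (.node [1,2] (.node [2,1,2] (.node [2,1,2,1,1,1] .nil .nil) .nil) (.node [3,1,2,1] .nil .nil)) (.node [2,1,1] (.node [2,1,1,1] .nil .nil) (.node [1,2,1,1,1] .nil .nil))) (.node [2,1] (.node [1,3] (.node [1,3,2] .nil .nil) (.node [3,2,1,2] .nil .nil)) (.node [1,2,1] (.node [3,2,1,1] .nil .nil) (.node [3,2,1,2,1] .nil .nil)))) (.node [2] (.node [1,1] (.node [3,2] (.node [3,1,2] .nil .nil) (.node [1,3,2,1] .nil .nil)) (.node [3,1,1] (.node [1,2,1,1] .nil .nil) (.node [2,1,2,1,1] .nil .nil))) (.node [3,1] (.node [1,1,1] (.node [2,1,3] .nil .nil) (.node [2,1,3,2] .nil .nil)) (.node [3,2,1] (.node [2,1,2,1] .nil .nil) (.node [2,1,3,2,1] .nil .nil)))))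

/-- The levels. -/
def levels : List Lv := [⟨100, [0,1,2,3,4,5,6], words0, []⟩,
  ⟨77, [1,2,3,4,5,6], words1, []⟩,
  ⟨60, [1,2,3,4,5], words2, []⟩,
  ⟨3, [1,2,3,4], words3, []⟩,
  ⟨32, [1,2,3], words4, []⟩]

/-- The multiplier of the spanning certificate. -/
def spanK : ℤ := 32

/-- The spanning certificate. -/
def span : List (ℤ × ℤ × List (ℕ × ℤ)) := [(0, 4, [(0,-4)]),
  (0, -4, [(0,-4)]),
  (10, 5, [(0,3),(1,-1),(2,-1),(3,-1),(4,-1),(5,-1),(6,-1),(7,-1),(8,-1),(9,-1),(10,-1),(11,-1),(12,-1),(13,-1),(14,-1),(15,-1),(16,-1),(17,-1),(18,-1),(19,-1),(20,-1),(21,-1)]),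
  (-2, -1, [(0,1),(1,-3),(2,-3),(3,-3),(4,-3),(5,-3),(6,1),(7,1),(8,1),(9,1),(10,1),(11,1),(12,1),(13,1),(14,1),(15,1),(16,1),(17,1),(18,1),(19,1),(20,1),(21,1)]),
  (-2, -1, [(0,1),(1,-3),(2,1),(3,1),(4,1),(5,1),(6,-3),(7,-3),(8,-3),(9,-3),(10,1),(11,1),(12,1),(13,1),(14,1),(15,1),(16,1),(17,1),(18,1),(19,1),(20,1),(21,1)]),
  (-2, -1, [(0,1),(1,1),(2,-3),(3,1),(4,1),(5,1),(6,-3),(7,1),(8,1),(9,1),(10,-3),(11,-3),(12,-3),(13,1),(14,1),(15,1),(16,1),(17,1),(18,1),(19,1),(20,1),(21,1)]),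
  (-2, -1, [(0,1),(1,-3),(2,1),(3,1),(4,1),(5,1),(6,1),(7,1),(8,1),(9,1),(10,-3),(11,1),(12,1),(13,-3),(14,-3),(15,-3),(16,1),(17,1),(18,1),(19,1),(20,1),(21,1)]),
  (-2, -1, [(0,1),(1,1),(2,1),(3,-3),(4,1),(5,1),(6,1),(7,-3),(8,1),(9,1),(10,1),(11,-3),(12,1),(13,-3),(14,1),(15,1),(16,-3),(17,1),(18,1),(19,1),(20,1),(21,1)]),
  (-2, -1, [(0,1),(1,1),(2,1),(3,-3),(4,1),(5,1),(6,1),(7,1),(8,-3),(9,1),(10,-3),(11,1),(12,1),(13,1),(14,1),(15,1),(16,1),(17,-3),(18,-3),(19,1),(20,1),(21,1)]),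
  (-2, -1, [(0,1),(1,1),(2,1),(3,1),(4,-3),(5,1),(6,1),(7,-3),(8,1),(9,1),(10,-3),(11,1),(12,1),(13,1),(14,1),(15,1),(16,1),(17,1),(18,1),(19,-3),(20,-3),(21,1)]),
  (-2, -1, [(0,1),(1,1),(2,1),(3,1),(4,1),(5,-3),(6,1),(7,1),(8,-3),(9,1),(10,1),(11,-3),(12,1),(13,1),(14,-3),(15,1),(16,1),(17,1),(18,1),(19,-3),(20,1),(21,1)]),
  (-2, -1, [(0,1),(1,1),(2,1),(3,1),(4,1),(5,-3),(6,1),(7,-3),(8,1),(9,1),(10,1),(11,1),(12,-3),(13,1),(14,1),(15,-3),(16,1),(17,-3),(18,1),(19,1),(20,1),(21,1)]),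
  (-2, -1, [(0,1),(1,1),(2,1),(3,1),(4,-3),(5,1),(6,-3),(7,1),(8,1),(9,1),(10,1),(11,1),(12,1),(13,1),(14,-3),(15,1),(16,-3),(17,-3),(18,1),(19,1),(20,1),(21,1)]),
  (-2, -1, [(0,1),(1,1),(2,1),(3,1),(4,-3),(5,1),(6,1),(7,1),(8,1),(9,-3),(10,1),(11,-3),(12,1),(13,1),(14,1),(15,-3),(16,1),(17,1),(18,-3),(19,1),(20,1),(21,1)]),
  (-2, -1, [(0,1),(1,1),(2,-3),(3,1),(4,1),(5,1),(6,1),(7,-3),(8,1),(9,1),(10,1),(11,1),(12,1),(13,1),(14,-3),(15,1),(16,1),(17,1),(18,-3),(19,1),(20,1),(21,-3)]),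
  (-2, -1, [(0,1),(1,-3),(2,1),(3,1),(4,1),(5,1),(6,1),(7,1),(8,1),(9,1),(10,1),(11,1),(12,-3),(13,1),(14,1),(15,1),(16,-3),(17,1),(18,-3),(19,-3),(20,1),(21,1)]),
  (-2, -1, [(0,1),(1,1),(2,1),(3,1),(4,1),(5,-3),(6,1),(7,1),(8,1),(9,-3),(10,-3),(11,1),(12,1),(13,1),(14,1),(15,1),(16,-3),(17,1),(18,1),(19,1),(20,1),(21,-3)]),
  (-2, -1, [(0,1),(1,1),(2,-3),(3,1),(4,1),(5,1),(6,1),(7,1),(8,-3),(9,1),(10,1),(11,1),(12,1),(13,1),(14,1),(15,-3),(16,-3),(17,1),(18,1),(19,1),(20,-3),(21,1)]),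
  (-2, -1, [(0,1),(1,-3),(2,1),(3,1),(4,1),(5,1),(6,1),(7,1),(8,1),(9,1),(10,1),(11,-3),(12,1),(13,1),(14,1),(15,1),(16,1),(17,-3),(18,1),(19,1),(20,-3),(21,-3)]),
  (-2, -1, [(0,1),(1,1),(2,1),(3,1),(4,-3),(5,1),(6,1),(7,1),(8,-3),(9,1),(10,1),(11,1),(12,-3),(13,-3),(14,1),(15,1),(16,1),(17,1),(18,1),(19,1),(20,1),(21,-3)]),
  (-2, -1, [(0,1),(1,1),(2,1),(3,-3),(4,1),(5,1),(6,-3),(7,1),(8,1),(9,1),(10,1),(11,1),(12,1),(13,1),(14,1),(15,-3),(16,1),(17,1),(18,1),(19,-3),(20,1),(21,-3)]),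
  (-2, -1, [(0,1),(1,1),(2,1),(3,1),(4,1),(5,-3),(6,-3),(7,1),(8,1),(9,1),(10,1),(11,1),(12,1),(13,-3),(14,1),(15,1),(16,1),(17,1),(18,-3),(19,1),(20,-3),(21,1)]),
  (-2, -1, [(0,1),(1,1),(2,1),(3,-3),(4,1),(5,1),(6,1),(7,1),(8,1),(9,-3),(10,1),(11,1),(12,-3),(13,1),(14,-3),(15,1),(16,1),(17,1),(18,1),(19,1),(20,-3),(21,1)]),
  (-2, -1, [(21,1),(0,1),(1,1),(2,-3),(3,1),(4,1),(5,1),(6,1),(7,1),(8,1),(9,-3),(10,1),(11,1),(12,1),(13,-3),(14,1),(15,1),(16,1),(17,-3),(18,1),(19,-3),(20,1)])]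

end Cfsg.Agent.HigSims.Model
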