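import Cfsg.Agent.Leech.SimpleHSMcL
import Cfsg.Agent.LeechModel.Words
import Cfsg.Agent.HigSims.ModelData

/-!
The group of the definitions as a group of permutations of 100 vectors.
-/

set_option autoImplicit false
set_option maxRecDepth 100000
set_option maxHeartbeats 0

namespace Cfsg.Agent.HigSims

open Cfsg Cfsg.Agent.Compute Cfsg.Agent.StemCert Cfsg.Agent.LeechModel

/-- The points. -/
def frame : Frame := ⟨Spor.leechV, Spor.leechU', 0, 100, Model.pts⟩

theorem le_co0 : Spor.HS ≤ Co0 := inf_le_left.trans inf_le_left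

theorem acts : frame.Acts Spor.HS where
  le := le_co0
  fixv g hg := (Subgroup.mem_inf.mp (Subgroup.mem_inf.mp hg).1).2
  fixw g hg := (Subgroup.mem_inf.mp hg).2

theorem frame_X : frame.X = {x : leechLattice | x ∈ Leech.layer 32 ∧
    dotInt (Spor.leechU' : GolayPt → ℤ) (x : GolayPt → ℤ) = 0 ∧
    dotInt (Spor.leechV : GolayPt → ℤ) (x : GolayPt → ℤ) = 24} := by
  ext x
  exact ⟨fun ⟨a, b, c⟩ => ⟨a, c, b⟩, fun ⟨a, b, c⟩ => ⟨a, c, b⟩⟩

theorem ncard_X : {x : leechLattice | x ∈ Leech.layer 32 ∧
    dotInt (Spor.leechU' : GolayPt → ℤ) (x : GolayPt → ℤ) = 0 ∧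
    dotInt (Spor.leechV : GolayPt → ℤ) (x : GolayPt → ℤ) = 24}.ncard = 100 :=
  Leech.ncard_hundred Spor.leechV Spor.leechU'
    ⟨show sqNorm Spor.vecV = 48 by decide +kernel, show sqNorm Spor.vecU' = 32 by decide +kernel,
      show dotInt Spor.vecV Spor.vecU' = -16 by decide +kernel⟩

theorem good : frame.Good where
  parity := by decide +kernel
  sums := by decide +kernel
  code := by decide +kernel
  norm := by decide +kernel
  dotv := by decide +kernel
  dotw := by decide +kernel
  list := by decide +kernel
  packed := by decide +kernel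
  length := by decide +kernel
  nodup := by decide +kernel
  count := by rw [frame_X]; exact ncard_X

/-- The spanning certificate. -/
def comb (p : GolayPt) : ℤ × ℤ × List (ℕ × ℤ) := Model.span.getD (Leech.idx p) (0, 0, [])

theorem spans : frame.Span Model.spanK comb where
  ne := by decide +kernel
  idx := by decide +kernel
  eq := by decide +kernel

/-- The permutation representation on 100 points. -/
noncomputable def ι : ↥Spor.HS →* Equiv.Perm (Fin 100) := acts.rep good (by decide)

theorem ι_injective : Function.Injective ι := acts.rep_injective good _ spans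

theorem gens_fix : ∀ a ∈ Model.gensL,
    a.f (Leech.toL (Spor.leechV : GolayPt → ℤ)) = Leech.toL (Spor.leechV : GolayPt → ℤ) ∧
      a.f (Leech.toL (Spor.leechU' : GolayPt → ℤ)) = Leech.toL (Spor.leechU' : GolayPt → ℤ) := by
  intro a ha
  simp only [Model.gensL, List.mem_cons, List.not_mem_nil, or_false] at ha
  rcases ha with rfl | rfl | rfl | rfl <;> exact ⟨by decide +kernel, by decide +kernel⟩

theorem gens_mem {a : Leech.LGen} (ha : a ∈ Model.gensL) :
    (a.g : Equiv.Perm leechLattice) ∈ Spor.HS :=
  ⟨⟨a.g.2, fix_of_toL a _ (gens_fix a ha).1⟩, fix_of_toL a _ (gens_fix a ha).2⟩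

/-- The lattice generators as elements of the group. -/
noncomputable def baseGen (s : ℕ) : ↥Spor.HS :=
  if hs : s < Model.gensL.length then ⟨_, gens_mem (List.getElem_mem hs)⟩ else 1

theorem base_checks : frame.genB 7 Model.a0.f (Model.baseCodes.getD 0 0) = true ∧
    frame.genB 7 Model.a1.f (Model.baseCodes.getD 1 0) = true ∧
    frame.genB 7 Model.a2.f (Model.baseCodes.getD 2 0) = true ∧
    frame.genB 7 Model.a3.f (Model.baseCodes.getD 3 0) = true := by
  refine ⟨?_, ?_, ?_, ?_⟩ <;> decide +kernel

theorem coded_base : Coded (w := 7) (k := 4) ι baseGen Model.baseCodes := by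
  intro s hs x
  obtain ⟨c0, c1, c2, c3⟩ := base_checks
  have hs' : s < Model.gensL.length := hs
  rw [baseGen, dif_pos hs']
  interval_cases s
  exacts [acts.rep_gen good _ Model.a0 _ c0 x, acts.rep_gen good _ Model.a1 _ c1 x,
    acts.rep_gen good _ Model.a2 _ c2 x, acts.rep_gen good _ Model.a3 _ c3 x]

/-- The strong generators. -/
noncomputable def gen (s : ℕ) : ↥Spor.HS := evalW baseGen (Model.strongWords.getD s [])

theorem words_ok :
    wordsB 100 7 4 Model.baseCodes Model.strongWords Model.codes 7 = true := by decide +kernel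

theorem coded : Coded (w := 7) (k := 7) ι gen Model.codes := coded_of_wordsB coded_base words_ok

/-- The group inside the stabiliser of the lattice. -/
theorem card_and_simple : Nat.card ↥Spor.HS = 44352000 ∧ IsSimpleGroup ↥Spor.HS := by
  obtain ⟨f1, f2, f3, -, -, -⟩ := Leech.hV_facts
  have e : Spor.HS.subgroupOf Co0 =
      MulAction.stabilizer ↥Co0 Spor.leechV ⊓ MulAction.stabilizer ↥Co0 Spor.leechU' := by
    ext g
    simp only [Subgroup.mem_subgroupOf, Spor.HS, Spor.Co3, Subgroup.mem_inf,
      MulAction.mem_stabilizer_iff]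
    exact ⟨fun ⟨⟨_, a⟩, b⟩ => ⟨a, b⟩, fun ⟨a, b⟩ => ⟨⟨g.2, a⟩, b⟩⟩
  obtain ⟨g, g1, g2⟩ := Leech.trans_sixteen Spor.leechV Spor.leechU' Leech.hV Leech.hT
    (show sqNorm Spor.vecV = 48 by decide +kernel) f1
    (show sqNorm Spor.vecU' = 32 by decide +kernel) f2
    (show dotInt Spor.vecV Spor.vecU' = -16 by decide +kernel) f3
  obtain ⟨k⟩ := Leech.stab_pair_iso g Spor.leechV Spor.leechU'
  rw [g1, g2] at k
  obtain ⟨hs, hc⟩ := Leech.simple_hs
  let f := ((Subgroup.subgroupOfEquivOfLe le_co0).symm.trans (MulEquiv.subgroupCongr e)).trans k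
  exact ⟨(Nat.card_congr f.toEquiv).trans hc, MulEquiv.isSimpleGroup (H := ↥Leech.hsGroup) f⟩

theorem card_hs : Nat.card ↥Spor.HS = 44352000 := card_and_simple.1

instance : IsSimpleGroup ↥Spor.HS := card_and_simple.2

instance : Finite ↥Spor.HS := Nat.finite_of_card_ne_zero (by rw [card_hs]; norm_num)

theorem levels_wf : wfB Model.levels = true ∧ gensBelow 7 Model.levels = true := by decide +kernel

theorem base_lt : ∀ b ∈ Model.base, b < 100 := by decide +kernel

theorem levels_distinct : distinctB 7 Model.codes Model.levels Model.base = true := by decide +kernel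

theorem levels_forms : numForms Model.levels = 44352000 := by decide +kernel

theorem base_isBase : IsBase ι Model.base :=
  isBase_of_card coded levels_wf.1 levels_wf.2 base_lt levels_distinct
    (levels_forms.trans card_hs.symm)

theorem generated : ∀ x : ↥Spor.HS, x ∈ Submonoid.closure (gen '' {s | s < 7}) :=
  generates_of_card coded levels_wf.1 levels_wf.2 base_lt levels_distinct
    (levels_forms.trans card_hs.symm)

end Cfsg.Agent.HigSims
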