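import Cfsg.Agent.LeechModel.Involutions

/-! Data for the outer automorphisms and involutions. -/

set_option autoImplicit false
set_option maxRecDepth 100000
set_option maxHeartbeats 0
set_option linter.all false

namespace Cfsg.Agent.HigSims.Out

open Cfsg.Agent.StemCert Cfsg.Agent.LeechModel

/-- The codes of the powers of the element of order eleven. -/
def powers : List ℕ := [0xc78b0e0bf7aedcb76acd8af5aad4a74a8d09f3a6cc972a4c88f1a2c4870a0c07ef9ebc76e9cb86ed9ab466c98b05eb96ac56a94a84e992a446890a03e78e9c3668c982e58a9426488901e3868c16284880e182840608080,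
  0xa15f054bd4f0e2c776fdca556c599f46dd69d6a53d267422f1265f4722b40bc840d4a0583cfa256226a38641d0c1470b33349c5b750d1fc61c60aa48a843c962edb26720a5a50ab95408236248285dc0636c891e6131a80,
  0xad4aa59a73f057a186f62a362e5f9d6f1d5b574ea90a1cf0a70d81895459aa05ac05a46706298341a50e23007c82f2414376a0a2b6e8e1191a9a5c67c54d8474b04343f309bf24713bc03123af4ae5132624172118f6680,
  0xab46cdf9f3aa52ad829d7b77315eb58e858bb8438b246d09744218384e0a6a42c30a468605f2676c8e8d54f20af721261158dd29a56396b688d0999072d89e1ecc3238af42c25d254206b1c48a7e7cc107500e1590a6500,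
  0xb16efde9d6acd1ab527d2c78abd3bb42b5cc380d945cc4ab930186225132546052129922d41b458403c44e8008a3e79eaa66adfbb3434b088e8c2b6604dd21830d90e7ca492d3811ba49a25c1785153401ef24cb5e2ce80,
  0xb98ef53b576fdbb166751a15e94fc35aae2c1518a538ea59f4cca4186ef4e9998bdfb655358236700dc75091a978a854a7866a12c771010612389081814795024480d062d71692795c694e11395af9a3c82802131450380,
  0xc5429cfbb86f63b97ed5bad4a8cec156c57a965d3f923c9c568417a656a43b67a2a1084f2860e86f18896f1a6b97c545a822ed6b3591e6327035706904a0cb6aaa0446050e020884d193a88c1f2c0d1a00290f052e94d80,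
  0xaf5a7cec3829d0c57aee3ab46ddaa962e52b37c7c209042be4700534342cd88525d686507640d2281d38566651f072ca3754b0b436625e904510e325eb80939a9de4718964cc3c55db60e6134504c07246b1909272fd880,
  0xa55675ac1527d6af4f0d0b16f1ddb373151bf7a0ad3c049031cf0ba3765188616e4b326e1d7c454907a234d8ec5604d2ab4ecc11186e14c0311e4901471a8594a100990fc23d432d6083699a3e98306c69a64aae3f09d00,
  0xa362d5da966755a53f056b98e861bf8abdbbd4c09642d57301a81c8e5895d32287c110566c5474f1a09876203be1815f9a510e62a22885bc4c242402f266923add2385f08f292a4d98662d11837b2221994da59c8ab4780,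
  0xb772ee1b37ed58a33aa55c542b60bd5e963a73da822b34e0c8890f8d66fc7904b1664034c4b8950640a65818d83904a13b6e45ea75460a2068e0f3c721252e0eae32214b508b96161b2748c73052be3b63a209c97c5a080]

/-- The involution. -/
def tWord : List ℕ := [3,2,5,0,0,5,3,6,3,5,1,4,3,2,1]

/-- The conditions. -/
def conds : List (List ℕ × ℕ) := [([1,7], 3)]

/-- The outer permutation. -/
def sigma : ℕ := 0xc14e863a55eb4fa9568cebd76d5bc57ece1b960ea9572a1af44f229892fd899847dec6423c189264038e082209790a929e96ba60524356a0471dda47cb269102560446050d166e9ce3674d130a0431c326a19433722cd80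

/-- The twisted generators. -/
def twisted : List (List ℕ) := [[6,5,0,6,3,6,5,5,1,4,1,1,1],
  [5,2,1,0,3,2,6,3,5,5,4,2],
  [0,3,5,0,6,2,1,6,4,2,5,5,4,2,1],
  [5,5,1,0,0,1,2,6,1,5],
  [2,1,0,5,3,6,4,1,2,5,2,1,3,2],
  [5,6,4,0,0,5,1,1,6,4,5,1,5,4,2,1,3,2],
  [6,4,2,1,1,1]]

/-- The generators in the pair. -/
def pairWords : List (List ℕ) := [[0,11,0,11,1,11,0,11],
  [0,11,3,11,1,11,2,11,5,11,8,11,6,11,5,11,4,11,0,11],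
  [0,11,0,11,0,11,3,11,6,11,5,11,1,11,8,11,3,11,7,11],
  [0,11,1,11,9,11,5,11,2,11,4,11,5,11,1,11,6,11,7,11],
  [0,11,1,11,3,11,5,11,2,11,1,11,4,11,8,11,5,11,5,11],
  [0,11,1,11,4,11,8,11,8,11,5,11,2,11,2,11,1,11,10,11],
  [0,11,6,11,8,11,6,11,1,11,2,11,6,11,10,11,6,11,4,11]]

/-- An element raising to the third power. -/
def cubeWord : List ℕ := [1,0,0,6,1,2,6,1,4,2,1,1]

/-- The sift. -/
def siftDigits : List ℕ := [79,43,5,0,3]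

/-- A transversal of the centraliser. -/
def cent0Words0 : Arr (List ℕ) :=
  (.node [] (.node [0] (.node [1,0] (.node [4,1] (.node [3,0,1] (.node [4,1,1,0] .nil .nil) (.node [2,1,2,1] .nil .nil)) (.node [1,4,1] (.node [1,1,0,1] .nil .nil) (.node [0,1,2,1,0] .nil .nil))) (.node [4,1,0] (.node [4,1,1] (.node [2,4,1,0] .nil .nil) (.node [1,2,4,1] .nil .nil)) (.node [1,0,1,0] (.node [1,1,1,1] .nil .nil) (.node [1,2,4,1,0] .nil .nil)))) (.node [1,1] (.node [1,1,0] (.node [1,1,1] (.node [0,4,1,0] .nil .nil) (.node [1,0,4,1] .nil .nil)) (.node [3,4,1] (.node [1,3,0,1] .nil .nil) (.node [1,0,4,1,0] .nil .nil))) (.node [1,0,1] (.node [4,2,1] (.node [1,0,0,1] .nil .nil) (.node [1,1,0,1,0] .nil .nil)) (.node [1,1,1,0] (.node [0,1,2,1] .nil .nil) .nil)))) (.node [1] (.node [0,1] (.node [0,1,0] (.node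 [4,0,1] (.node [1,2,1,0] .nil .nil) (.node [2,4,2,1] .nil .nil)) (.node [2,4,1] (.node [2,1,0,1] .nil .nil) (.node [1,1,2,1,0] .nil .nil))) (.node [0,0,1] (.node [1,2,1] (.node [0,0,0,1] .nil .nil) (.node [1,0,0,1,0] .nil .nil)) (.node [2,0,1,0] (.node [2,4,1,1] .nil .nil) .nil))) (.node [2,1] (.node [2,1,0] (.node [3,1,1] (.node [1,4,1,0] .nil .nil) (.node [1,1,4,1] .nil .nil)) (.node [0,0,1,0] (.node [1,4,0,1] .nil .nil) (.node [1,1,4,1,0] .nil .nil))) (.node [2,0,1] (.node [0,4,1] (.node [0,1,0,1] .nil .nil) (.node [1,1,1,1,0] .nil .nil)) (.node [3,1,1,0] (.node [1,1,2,1] .nil .nil) .nil)))))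

/-- A transversal of the centraliser. -/
def cent0Words1 : Arr (List ℕ) :=
  (.node [] (.node [4] (.node [3,4] (.node [2,4,2,4] .nil .nil) (.node [4,2,4,2,4] .nil .nil)) (.node [4,2,4] (.node [2,4,3,2,4] .nil .nil) .nil)) (.node [2,4] (.node [3,2,4] (.node [3,4,2,4] .nil .nil) .nil) (.node [4,3,2,4] (.node [3,2,4,2,4] .nil .nil) .nil)))

/-- A transversal of the centraliser. -/
def cent0Words2 : Arr (List ℕ) :=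
  (.node [] (.node [2] (.node [3,2] .nil .nil) .nil) (.node [3] .nil .nil))

/-- Generators of a centraliser. -/
def cent0Gens : List (List ℕ) := [[6,3,1,0,2,5,1,2,6,4,3,1,2],
  [2,0,5,0,2,5,4,6,1,5,2,1,2,1,1,1],
  [2,1,6,1,2,1,1],
  [6,1,4],
  [0,3,1,0,0,6,1,2,6,1,4,2,1,3,2]]

/-- Their codes. -/
def cent0Codes : List ℕ := [0x4803b8a4d6cc92c92e8b61442c3517eb172824f0a7e9edb98a691139eac8c6683401908ec1d830428014254e6190cd29d36ea6da467db5324187d54c326311c21937bd71e54892a0ad5d09f29c0b31c0af1f12a5f3a5bd,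
  0x520c11b9311b636567de601ab19be1545810e9db78a948127f6c19da49c48044ae32014c4f976b4ce5a3d2708f87346b328e09b2b2d121a1d4680172103a14c5aa8c1775ec0c10954783296e352ba262af2d7aca939f3c,
  0xc38b1d0ad3a955b73ecd7b17ee54a7768e0b579db76d2a4b47d0a2b38719d39791debf9b06035992dc4888c878b1c28a9120309941a48d24467cea0447109e369418404156a8529962b62bd3aa60b83881218b18325c080,
  0xc74f0e0ad5e95aa972ccebd7e7dbc5768d0ab60ec1912a1cb3f0a29e931a6257889ebf42dcd3874d1ab638c949756a8c985eb98964c9e02046f9da48f126b336e56ac60a01851e3420e264090a04304880e18a112a2c080,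
  0xc752f4eb386eda9f72fd8af5a9e2ab46950b780e1e96f921b8ed932e2cb55407329eaf30cdfb83b1981974950b5791212935056204f159493e898a84731bcd90ada3b2f0ca851848501083831312445830e34a0f1008800]

/-- The levels. -/
def cent0Levels : List Lv := [⟨60, [0,1,2,3,4], cent0Words0, []⟩,
  ⟨12, [2,3,4], cent0Words1, []⟩,
  ⟨4, [2,3], cent0Words2, []⟩]

/-- The base. -/
def cent0Base : List ℕ := [0,1,2]

/-- A transversal of the centraliser. -/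
def cent1Words0 : Arr (List ℕ) :=
  (.node [] (.node [0] (.node [1,0] (.node [0,0,0] (.node [4,1,0] (.node [1,2,0,0] (.node [3,0,3,0,0] .nil .nil) .nil) (.node [0,3,2,0] (.node [4,3,0,3,0,0] .nil .nil) .nil)) (.node [1,4,0] (.node [0,2,1,0] (.node [3,0,2,1,0] .nil .nil) .nil) (.node [1,3,0,0,0] .nil .nil))) (.node [0,1,0] (.node [3,2,0] (.node [0,0,1,0] (.node [3,0,0,1,0] .nil .nil) .nil) (.node [0,0,4,0] .nil .nil)) (.node [3,0,0,0] (.node [1,3,1,0] (.node [0,1,4,2,0] .nil .nil) .nil) (.node [0,0,2,0,0] .nil .nil)))) (.node [3,0] (.node [2,0,0] (.node [1,2,0] (.node [4,2,0,0] (.node [1,0,0,1,0] .nil .nil) .nil) (.node [1,4,2,0] .nil .nil)) (.node [0,0,0,0] (.node [2,2,1,0] (.node [0,0,1,2,0] .nil .nil) .nil) (.node [0,4,0,0,0] .nil .nil))) (.node [2,1,0] (.node [2,3,0] (.node [0,1,1,0]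 (.node [0,3,1,1,0] .nil .nil) .nil) (.node [3,2,4,0] .nil .nil)) (.node [0,1,0,0] (.node [0,1,2,0] (.node [1,0,3,2,0,0] .nil .nil) .nil) (.node [0,3,2,0,0] .nil .nil))))) (.node [0,0] (.node [2,0] (.node [1,0,0] (.node [0,2,0] (.node [3,2,0,0] (.node [4,0,3,0,0] .nil .nil) .nil) (.node [1,3,2,0] .nil .nil)) (.node [2,4,0] (.node [1,2,1,0] (.node [4,0,2,1,0] .nil .nil) .nil) (.node [4,3,0,0,0] .nil .nil))) (.node [1,1,0] (.node [4,2,0] (.node [2,0,1,0] (.node [0,2,0,1,0] .nil .nil) .nil) (.node [0,1,4,0] .nil .nil)) (.node [4,0,0,0] (.node [2,3,1,0] (.node [0,1,3,0,0,0] .nil .nil) .nil) (.node [0,1,2,0,0] .nil .nil)))) (.node [4,0] (.node [3,0,0] (.node [2,2,0] (.node [0,3,0,0] (.node [2,0,0,1,0] .nil .nil) .nil) (.node [0,2,3,0] .nil .nil)) (.node [2,0,0,0] (.node [4,2,1,0] (.node [0,1,3,2,0]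 .nil .nil) .nil) (.node [2,4,0,0,0] .nil .nil))) (.node [3,1,0] (.node [0,4,0] (.node [3,1,1,0] (.node [2,0,2,1,0] .nil .nil) .nil) (.node [4,2,4,0] .nil .nil)) (.node [0,2,0,0] (.node [3,2,2,0] (.node [0,0,0,3,0,0] .nil .nil) .nil) (.node [0,0,3,0,0] .nil .nil))))))

/-- A transversal of the centraliser. -/
def cent1Words1 : Arr (List ℕ) :=
  (.node [] (.node [1] (.node [2,1,1] .nil .nil) .nil) (.node [1,1] .nil .nil))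

/-- A transversal of the centraliser. -/
def cent1Words2 : Arr (List ℕ) :=
  (.node [] (.node [2] (.node [3,2] .nil .nil) (.node [4,3,2] .nil .nil)) (.node [2,2] (.node [4,2] .nil .nil) .nil))

/-- A transversal of the centraliser. -/
def cent1Words3 : Arr (List ℕ) :=
  (.node [] (.node [3] .nil .nil) .nil)

/-- A transversal of the centraliser. -/
def cent1Words4 : Arr (List ℕ) :=
  (.node [] (.node [4] .nil .nil) .nil)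

/-- An involution of the other class. -/
def uWord : List ℕ := [6,3,1,6,4,5,3,1,5,3,1,2]

/-- Generators of a centraliser. -/
def cent1Gens : List (List ℕ) := [[0,4,2,1,0,6,2,1,6,5,1,5,1,5,2,1,2,1],
  [0,4,2,1,0,6,1,4,1,6,4,1,2,1,1],
  [5,3,1,6,2,1,2,5,2,1,1,1],
  [1,4,1,2,1,1],
  [1,2,1,1,1]]

/-- Their codes. -/
def cent1Codes : List ℕ := [0xee184f17056e25e46a12ab49b06be9c9c47315f49ac5d0511a15426b37412b5c7a6197e5001686d44a4551a10a6810d0f454edbc19284297684a81c062c2c1cc6710a00e01d36e994dc722f4b6696be138ded23b91de9f,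
  0xbb46cd0bf8a7e1c15ee53ab5ad54a562f5bc73a6c9161d44318250210490b3e7e99e013ee173028d42971ac883a72bd6045638d4c4b0099568c4e191ea59c4967a2ca461a1084f1e3227628e9236a88b73105b2d0721e80,
  0xc54f1d8ad528e0bd3a950af7eacfc376cdcb76954682e9aca52da62b8721a2e7e9deb2630933897164b75ef07071a28308184c8091e49f3058cdda88ee62405b34895282cc163478c9f4a8511d2e70283041101b4690080,
  0xc58e9d4bf6294fa16a8deaf5aae0c376cdbb9393b68329aba5d1a2af710a5a97ea9ebc4d218c369324b756c9cb0891d62d66fa0289aec9870c309091438690103c8951650c164a84c9c3478ea22e7d01b488c2830808080,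
  0xc78a9e0ad467d2a156c59af7ed54c372f5bbb395c9830a643551a2a9912a5af7eb9e3d62e133a6ed5b344ec9db080f962d9b1e22866e4e982e7cf19448529a2c71024466c3881a3848f204898a0c308942a2c2840608080]

/-- The levels. -/
def cent1Levels : List Lv := [⟨80, [0,1,2,3,4], cent1Words0, []⟩,
  ⟨4, [1,2,3,4], cent1Words1, []⟩,
  ⟨6, [2,3,4], cent1Words2, []⟩,
  ⟨2, [3,4], cent1Words3, []⟩,
  ⟨2, [4], cent1Words4, []⟩]

/-- The base. -/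
def cent1Base : List ℕ := [0,1,2,3,6]

/-- The elements of a Sylow subgroup. -/
def sylEls : List (List ℕ) := [[],
  [0,5,0,0,0,6,1,4,1,6,5,1,3,5,1,3,2],
  [0,3,1,0,5,6,1,4,1,6,1,1,5,5,1,4,1,1],
  [0,3,1,0,2,6,1,6,4,1,2,1,5,3,1,2],
  [0,3,5,0,6,1,2,6,3,5,1,4,1,1],
  [0,3,5,0,2,1,6,2,5,1,5,1,4,3,2,1],
  [3,0,3,0,4,5,1,2,6,5,5,2,1,5,4,3,2,1,2,1],
  [3,2,1,0,0,2,5,1,2,6,1,1,5,1,4,2,1,1,1],
  [5,3,1,6,3],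
  [3,0,3,0,2,5,1,2,6,5,1,3,5,4,2,1],
  [3,2,1,0,0,6,2,1,6,3,1,5,1,4,1,2,1,1],
  [6,3,1,6,4,5,3,1,5,3,1,2],
  [5,5,1,0,0,3,2,1,6,5,3,2,1,5,2,1,3],
  [1,0,4,1,0,6,1,4,1,6,5,5,1,1,5,1,2],
  [0,5,0,0,0,1,6,3,1,5,2,1,2,1,1],
  [5,5,1,0,0,4,6,4,1,2,5,1,4,2,1,2,1,1,1],
  [1,0,4,1,0,1,1,6,4,5,1,2,5,1,4,2],
  [0,5,0,0,0,4,6,1,6,1,5,1,5,2,1],
  [1,2,1,1,1],
  [1,0,4,1,0,6,1,6,5,1,3,5,4,1,2,1,1],
  [1,0,4,1,0,1,2,1,6,1,2,1,5,4,2,1,3],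
  [3,0,3,0,6,1,5,1,6,4,5,1,5,2,1,2,1,1],
  [5,5,1,0,0,5,6,1,4,1,6,3,5,2,1,5,1,4,2,1,1,1],
  [0,5,0,0,0,5,6,1,6,2,1,5,1,4,1,3,2],
  [0,3,1,0,3,2,6,5,3,2,1,5,2,1,2,1,1],
  [0,3,1,0,2,6,4,6,5,5,4,1,2,1,1],
  [5,3,1,6,1,3,2,1],
  [1,0,4,1,0,6,5,3,5,4,2,1,2,1],
  [1,0,4,1,0,5,1,2,6,5,1,5,1,5,3,2,1],
  [3,0,3,0,6,1,2,6,3,5,1,4,3,2,1,2],
  [5,5,1,0,0,1,5,1,6,1,5,5,2,1,3,2],
  [0,3,1,0,5,6,4,6,2,1,2,5,1,4,2],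
  [0,5,0,0,0,4,6,1,6,1,5,1,5,1],
  [3,2,1,0,0,5,3,6,2,1,1,5,3,1],
  [3,2,1,0,0,5,6,1,4,1,6,2,1,2,5,4,3,2,1,2],
  [5,5,1,0,0,5,6,1,4,1,6,2,5,5,1,4,1,2],
  [3,0,3,0,6,3,1,6,5,1,1,5,4,3,2,1,2,1],
  [4,2,6,2,1,2,5,2,1,1,1],
  [0,3,5,0,4,1,6,3,2,1],
  [0,3,5,0,5,3,6,4,5,1,5,5,1,4,1,2],
  [0,5,0,0,0,5,2,1,6,1,3,2,5,3,1,2,1],
  [3,2,1,0,0,5,2,6,1,1,1,5,1,4,3,1,2],
  [3,2,1,0,0,1,1,6,3,5,5,2,1],
  [5,5,1,0,0,4,6,4,1,2,5,4,2,1,2,1],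
  [3,0,3,0,6,5,1,5,5,1,4,1,2],
  [0,3,5,0,5,5,3,6,5,1,1,5,1,2,1,1,1],
  [0,5,0,0,0,6,1,4,1,6,5,1,3,5,2,1,3,2],
  [0,3,1,0,5,6,1,4,1,6,1,1,5,5,1,4,1,2,1],
  [0,3,1,0,2,6,1,6,4,1,2,1,5,3,2,1,2],
  [3,2,1,0,0,5,2,1,1,6,2,1,1,5,4,3,2,1],
  [5,5,1,0,0,3,2,1,6,5,5,1,4,1,3,2,1],
  [3,0,3,0,6,5,2,1,6,2,1,1,5,1,4,1,2,1,1,1],
  [5,5,1,0,0,1,6,1,6,3,5,2,1,2,1],
  [3,0,3,0,4,5,1,2,6,2,1,1,1,5,4,3,2,1,2],
  [0,3,1,0,1,4,1,6,1,3,5,1,4,3,1,2,1],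
  [1,5,1,6,1,5,5,1,5,1,4,2,1,3,2],
  [1,0,4,1,0,6,1,4,1,6,4,5,1,5,4,3,2,1,2,1],
  [0,3,5,0,6,1,2,1,5,1,4,2,1,3],
  [0,5,0,0,0,4,1,6,1,3,5,1,4,2,1,1],
  [3,2,1,0,0,5,2,1,1,6,4,5,5,4,2,1,2,1,1],
  [0,3,5,0,6,1,3,2,5,1,4,1,3],
  [3,0,3,0,6,1,3,2,5,4,1,2,1],
  [3,2,1,0,0,5,2,6,1,1,5,5,1,4,3,1],
  [5,5,3,6,3,5,4,2],
  [5,1,1,6,2,5,1,5,1,4,1,2],
  [0,5,0,0,0,5,6,1,6,2,1,5,1,4,2,1,3,2],
  [0,3,1,0,3,2,6,5,3,2,1,5,1,2,1,1],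
  [0,3,1,0,2,6,4,6,5,5,4,2,1,2,1,1],
  [3,2,1,0,0,1,6,1,6,1,5,1,5,4,3,2,1,1],
  [5,5,1,0,0,1,5,1,6,1,5,5,1,3,2],
  [3,0,3,0,6,1,2,6,3,5,1,1],
  [5,5,1,0,0,5,4,3,2,6,4,1,2,5,1],
  [3,0,3,0,2,1,1,6,1,3,2,5,4,3],
  [0,3,1,0,5,6,4,6,2,1,2,5,4,2,1,1],
  [5,1,1,6,2,5,1,5,3],
  [1,0,4,1,0,5,5,2,1,6,5,5,1,5,1,4,1],
  [0,3,5,0,4,1,6,5,1,5,1,5,1,3,2],
  [0,5,0,0,0,1,6,4,6,5,1,5,4,3,2,1],
  [3,2,1,0,0,1,1,6,3,5,5,4,3,2,1,2],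
  [6,3,1,6,4,5,3,1,5,3,2,1,2],
  [0,3,5,0,5,3,6,4,5,1,5,5,1,4,2,1,2],
  [0,3,5,0,5,5,3,6,5,1,1,5],
  [1,0,4,1,0,2,6,5,4,5,5,1,4,3,2],
  [3,0,3,0,6,5,2,1,6,5,5,4,5,5,4,2,1,2,1,1],
  [5,5,1,0,0,1,6,1,6,3,5,2,1,1],
  [3,0,3,0,4,5,1,2,6,5,5,2,1,5,4,3,2,1,1],
  [5,5,1,0,0,3,2,1,6,5,5,4],
  [0,3,5,0,6,1,3,2,5,3,2,1,1],
  [0,5,0,0,0,4,1,6,1,5,1,5,4,3,2,1],
  [3,2,1,0,0,5,2,1,1,6,2,1,1,5,2,1,2],
  [0,3,1,0,4,6,2,1,1,1,5,1,4,1,2,1,1,1],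
  [5,5,3,6,5,1,5,3,2,1,2],
  [1,0,4,1,0,2,6,1,2,1,5],
  [0,3,1,0,4,6,4,5,1,5,5,2,1,1],
  [5,5,1,0,0,1,5,1,6,5,5,2,1,5,1,4,3,1,2,1],
  [1,0,4,1,0,6,1,5,5,1,5,1,3],
  [0,5,0,0,0,5,5,1,1,6,5,3,2,1,5,4,1,2],
  [0,5,0,0,0,5,2,1,6,1,3,2,5,3,1,1],
  [3,6,2,1,2,5,3,2,1,1],
  [0,3,5,0,6,2,1,6,2,5,1,5,1,3,2,1],
  [0,3,5,0,6,1,2,6,3,5,1,4,1,2,1],
  [1,0,4,1,0,5,5,2,1,6,5,5,1,5,3,2],
  [3,0,3,0,2,1,1,6,1,3,2,5,1,4,3,1,2,1],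
  [5,5,1,0,0,5,4,3,2,6,4,1,2,5,2,1],
  [3,0,3,0,2,5,1,2,6,5,1,3,5,4,1],
  [5,5,1,0,0,1,2,6,4,5,2,1,5,1,4,1,2,1,1,1],
  [0,3,5,0,2,1,6,2,5,1,5,2,1,2,1],
  [0,5,0,0,0,5,2,1,6,1,3,2,5,1,4,1,3,2],
  [3,2,1,0,0,5,2,6,1,1,1,5,1,2,1],
  [0,3,1,0,3,2,6,3,1,5,3,1],
  [4,2,6,1,3,2,1,5,1,4,1,2,1],
  [1,0,4,1,0,5,1,2,6,5,1,5,1,5,4,2,1,2],
  [0,3,5,0,2,1,6,2,5,1,5,1,4,3,1],
  [3,2,1,0,0,2,5,1,2,6,1,1,5,1,4,1,1,1],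
  [3,2,1,0,0,6,2,1,6,3,1,5,1,4,2,1,2,1,1],
  [3,0,3,0,6,3,1,6,5,1,1,5,4,3,2,1,1],
  [5,5,1,0,0,1,6,1,3,5,4,2,1,2,1],
  [0,3,5,0,6,1,2,6,2,1,5,1,1,1],
  [0,5,0,0,0,4,6,1,6,1,2,1,5,2,1,2,1,1],
  [3,2,1,0,0,5,3,6,5,1,2,5,3,2,1,2],
  [1,0,4,1,0,1,2,1,6,1,5,1,5,3,1],
  [3,2,1,0,0,5,6,1,4,1,6,5,3,2,1,5,1,4,3,2],
  [0,3,1,0,5,6,1,4,1,6,5,5,4,5,5,4,1],
  [4,5,3,1,5,4,3,2,1],
  [1,0,4,1,0,6,1,6,2,1,1,5,2,1,3,2],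
  [3,2,1,0,0,5,6,1,4,1,6,2,1,2,5,4,3,1,2],
  [4,2,6,2,1,2,5,4,1,2,1,1],
  [0,3,1,0,1,4,1,6,1,3,5,1,4,3,1,1],
  [0,3,1,0,3,2,6,5,3,2,1,5,4,1,1,1],
  [3,2,1,0,0,5,6,1,4,1,6,5,3,2,1,5,4,2,1,2,1,1,1],
  [5,5,1,0,0,5,6,1,4,1,6,3,5,2,1,5,2],
  [3,0,3,0,6,3,1,6,5,5,1,5,4,2,1,1],
  [0,5,0,0,0,1,6,4,6,5,1,5,4,3,1],
  [1,5,1,6,3,5,1,4,2,1],
  [0,3,5,0,2,6,1,6,2,1,1,5,2,1,1,1],
  [0,3,5,0,4,1,6,5,1,5,1,5,2,1,3,2],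
  [5,5,1,0,0,1,6,5,5,1,3],
  [5,5,1,0,0,5,6,1,4,1,6,2,5,5,1,3,2,1],
  [1,0,4,1,0,6,1,6,2,1,1,5,4,1,3],
  [0,5,0,0,0,1,6,4,6,3,5,1,4,2,1,1],
  [4,2,6,2,1,2,5,1,1,1],
  [1,0,4,1,0,5,1,2,6,1,5,3,5,1,2,1],
  [1,0,4,1,0,5,5,2,1,6,4,1,2,1,5,4,3],
  [3,0,3,0,2,1,1,6,5,1,5,5,1,1],
  [5,5,1,0,0,5,4,3,2,6,1,5,5,1,5,4,2],
  [0,3,1,0,5,3,6,4,5,1,5,5,1,2,1,1,1],
  [0,3,5,0,6,1,3,2,5,1,4,2,1,3],
  [3,0,3,0,6,1,3,2,5,4,1,1],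
  [3,2,1,0,0,5,2,6,1,1,5,5,1,4,3,2,1],
  [5,5,3,6,3,5,4,2,1,2,1,1,1],
  [3,0,3,0,6,5,2,1,6,2,1,1,5,1,4],
  [3,2,1,0,0,5,2,1,1,6,4,5,5,4,1,2,1,1],
  [5,1,1,6,2,5,1,5,1,4,2,1,2],
  [3,0,3,0,6,5,1,5,5,1,4,2,1,2],
  [3,2,1,0,0,1,1,6,3,5,5,4,3,1,2],
  [3,2,1,0,0,1,6,1,6,1,5,1,5,4,3,2,1,2,1],
  [0,3,1,0,5,3,6,1,3,5,1,4,1,2,1,1,1],
  [3,6,1,1,5,5],
  [1,0,4,1,0,1,1,6,4,5,1,2,5,4,2,1,2,1],
  [3,2,1,0,0,1,1,6,3,5,5,1],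
  [1,4,2,1,2,1,1],
  [0,5,0,0,0,1,6,4,6,3,5,4,3,2,1,2,1],
  [0,3,1,0,5,3,6,4,5,1,5,5,1,4,2,1,2,1,1],
  [0,3,1,0,5,6,1,4,1,6,1,1,5,5,4,3,1,1],
  [3,0,3,0,2,5,1,2,6,5,1,3,5,3,2,1,2],
  [0,5,0,0,0,5,5,1,1,6,4,5,5,1,1],
  [5,1,1,6,1,4,1,2],
  [0,3,5,0,5,5,3,6,4,2,5,5,4,2,1],
  [0,3,5,0,2,6,1,6,2,1,1,5,4,2,1,2,1,1],
  [5,5,1,0,0,1,2,6,4,5,2,1,5,4,1,2,1],
  [0,3,1,0,5,6,4,6,2,1,2,5,1,4,2,1,2,1,1,1],
  [1,0,4,1,0,2,6,1,2,1,5,1,2,1,1,1],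
  [1,0,4,1,0,5,1,2,6,5,1,5,1,5,4,1,2],
  [5,5,1,0,0,1,6,5,5,2,1,3],
  [3,0,3,0,6,1,5,1,6,4,5,1,5,4,2,1,1,1],
  [0,3,1,0,2,6,4,6,1,3,5,4,3,2],
  [6,3,1,6,1,4,2,1,3,2],
  [1,0,4,1,0,1,2,1,6,1,2,1,5,2,1,3,2],
  [3,2,1,0,0,5,6,1,4,1,6,5,3,2,1,5,1,4,2,1,3,2,1],
  [1,0,4,1,0,6,1,6,5,1,3,5,4,2,1,2,1,1],
  [0,3,5,0,6,1,2,6,2,1,5,4,2,1,2,1,1],
  [0,5,0,0,0,4,6,1,6,1,2,1,5,4,2,1,1,1],
  [3,2,1,0,0,5,3,6,5,1,2,5,4,2,1],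
  [1,0,4,1,0,6,1,6,2,1,1,5,1,3,2],
  [0,5,0,0,0,1,6,4,6,3,5,4,3,2,1,1],
  [0,3,5,0,2,6,1,6,4,1,2,1,5,2,1,1,1],
  [0,3,5,0,4,1,6,4,2,1,2],
  [1,0,4,1,0,6,1,6,5,1,3,5,2,1,1,1],
  [3,0,3,0,6,3,1,6,5,1,1,5,1,4,2,1,1],
  [5,5,1,0,0,1,6,1,3,5,1,4,2,1,2,1,1,1],
  [3,6,1,1,5,5,1,4,2,1,2,1,1],
  [0,5,0,0,0,5,5,1,1,6,4,5,5,1,4,3,2,1,2],
  [0,3,1,0,4,6,2,1,1,1,5,4,1,1],
  [0,3,1,0,5,3,6,1,3,5,4,1,1],
  [3,0,3,0,6,1,5,1,6,3,5,5,3,2,1,1],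
  [3,0,3,0,6,3,1,6,5,5,1,5,1,4,2],
  [3,2,1,0,0,5,3,6,5,1,2,5,3,1,2],
  [3,6,2,1,2,5,3,2,1,2,1],
  [0,5,0,0,0,1,6,4,6,3,5,1,4,2,1,2,1],
  [3,2,1,0,0,1,1,6,1,5,1,5,4,3,2,1,1],
  [3,2,1,0,0,1,6,1,6,3,5,5,2,1],
  [5,5,1,0,0,1,5,1,6,5,5,2,1,5,4,3],
  [3,0,3,0,6,1,2,6,4,2,5,5,4,2],
  [0,3,5,0,6,2,1,6,2,5,1,5,3],
  [0,3,1,0,1,4,1,6,1,3,5,4,1,3,2,1],
  [5,5,1,0,0,1,2,6,5,1,1,5,2,1,3],
  [1,0,4,1,0,5,5,2,1,6,4,1,2,1,5,1,4,3,1,2,1],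
  [0,5,0,0,0,4,1,6,1,5,1,5,2,1,2],
  [5,5,1,0,0,3,2,1,6,5,3,2,1,5,1,3],
  [1,0,4,1,0,6,1,4,1,6,5,5,1,1,5,2,1,2],
  [0,5,0,0,0,1,6,3,1,5,1,2,1,1],
  [5,5,1,0,0,1,2,6,4,5,2,1,5,4,1,1],
  [1,0,4,1,0,1,1,6,4,5,1,2,5,1,4,2,1,2,1,1,1],
  [1,0,4,1,0,6,5,3,5,4,2,1,1],
  [0,3,5,0,6,2,1,6,1,3,2,1],
  [0,5,0,0,0,5,6,1,6,2,5,3,1,5,1,4,1],
  [3,2,1,0,0,6,2,1,6,3,1,5],
  [1,0,4,1,0,1,1,6,4,5,1,2,5,4,2,1,1],
  [0,5,0,0,0,4,6,1,6,1,5,1,5,4,3,1,2],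
  [3,6,2,1,2,5,1,4,1,3],
  [0,3,5,0,6,2,1,6,2,5,1,5,1,4,1,2],
  [0,3,5,0,6,1,2,6,3,5,4,3,1,1],
  [5,5,1,0,0,5,4,3,2,6,4,1,2,5,4,3,1,2],
  [5,5,3,6,5,1,5,3,1,2],
  [0,5,0,0,0,1,6,4,5,3,1,5,1,4,2,1,2],
  [0,3,1,0,2,6,1,6,3,1,1,5,2,1,2],
  [0,3,1,0,4,6,2,1,1,1,5,1,4],
  [3,0,3,0,2,1,1,6,1,3,2,5,1,4,3,1,1],
  [5,5,1,0,0,4,6,4,1,2,5,1,4,2],
  [1,0,4,1,0,1,2,1,6,1,2,1,5,4,1,3],
  [3,0,3,0,6,1,5,1,6,4,5,1,5,1,2,1,1],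
  [5,5,1,0,0,5,6,1,4,1,6,3,5,2,1,5,1,4,1,1,1],
  [1,0,4,1,0,5,1,2,6,5,1,5,1,5,3,1],
  [3,0,3,0,6,1,2,6,3,5,1,4,3,1,2],
  [0,3,5,0,2,6,1,6,4,1,2,1,5,4,2,1,2,1,1],
  [0,5,0,0,0,5,5,1,1,6,5,3,2,1,5,4,2,1,2],
  [3,2,1,0,0,2,5,1,2,6,1,3,5,2,1,2,1,1,1],
  [1,0,4,1,0,6,1,4,1,6,4,5,1,5,1,4,2,1,1],
  [0,5,0,0,0,1,6,4,5,3,1,5,1,3,2,1],
  [6,3,1,6,3,1,2,1],
  [0,3,5,0,5,3,6,1,2,1,5,3,2,1],
  [0,3,5,0,5,5,3,6,4,2,5,5,3,2,1,2],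
  [1,0,4,1,0,2,6,1,2,1,5,1,4,2,1,2,1,1],
  [3,0,3,0,6,5,2,1,6,2,1,1,5,4,1,2,1],
  [5,5,1,0,0,1,6,1,6,1,5,5,1,5,1,4,2,1,2,1,1],
  [3,0,3,0,4,5,1,2,6,2,1,1,1,5,2,1],
  [3,2,1,0,0,2,5,1,2,6,1,3,5,1,4,1,1,1],
  [5,3,1,6,2,5,1,5,1,3,2,1],
  [0,5,0,0,0,6,1,4,1,6,4,1,2,1,5,2,1,2,1,1],
  [0,3,1,0,5,6,1,4,1,6,5,5,4,5,5,3,1,2],
  [3,0,3,0,6,5,2,1,6,5,5,4,5,5,1,1,1],
  [5,5,1,0,0,3,2,1,6,5,5,4,1,2,1,1,1],
  [0,5,0,0,0,1,6,3,1,5,4,2,1,1,1],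
  [0,3,1,0,2,6,1,6,4,1,2,1,5,4,1],
  [0,3,1,0,4,6,4,5,1,5,5,1,4,3,1],
  [4,2,6,2,1,2,5,4,2,1,2,1,1],
  [3,0,3,0,6,1,3,2,5,1,4,1,2,1,1,1],
  [3,2,1,0,0,5,2,6,1,1,5,5,2,1,2,1],
  [5,5,3,6,3,5,1,4,2,1,3,2,1],
  [5,5,1,0,0,3,2,1,6,5,3,2,1,5,4,1,3,2],
  [0,3,5,0,6,1,2,1,5,3,2,1,1],
  [0,5,0,0,0,4,1,6,1,3,5,4,3,2,1,2,1],
  [3,2,1,0,0,5,2,1,1,6,4,5,5,2,1,1,1],
  [1,0,4,1,0,2,6,5,4,5,5,4,2],
  [5,1,1,6,1,4,2,1,2],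
  [0,3,5,0,5,5,3,6,4,2,5,5,4,1],
  [0,3,5,0,2,6,1,6,2,1,1,5,4,1,2,1,1],
  [0,3,1,0,1,4,1,6,4,5,1,5,5,3,1,2,1],
  [0,3,1,0,3,2,6,3,1,5,4,2,1,2],
  [5,5,1,0,0,1,6,5,5,4,2,1,3,2],
  [1,0,4,1,0,1,2,1,6,1,5,1,5,4,2,1,2],
  [0,5,0,0,0,5,5,1,1,6,4,5,5,1,2,1],
  [3,0,3,0,6,5,2,1,6,5,5,4,5,5,4,1,2,1,1],
  [0,3,1,0,4,6,4,5,1,5,5,2,1,2,1],
  [3,2,1,0,0,6,2,1,6,4,5,1,5,4,1],
  [5,5,1,0,0,5,4,3,2,6,1,5,5,1,5,4,2,1,2,1,1,1],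
  [3,0,3,0,2,1,1,6,5,1,5,5,1,4,3,2,1,2],
  [3,0,3,0,2,5,1,2,6,3,1,1,5,4,2,1,1,1],
  [0,3,1,0,5,3,6,4,5,1,5,5,1,4,1,2,1,1],
  [1,0,4,1,0,1,1,6,5,3,5,2,1],
  [3,2,1,0,0,1,6,1,6,3,5,5,4,3,2,1,2],
  [1,5,1,6,1,5,5,1,5,3,1,2,1],
  [5,5,1,0,0,5,6,1,4,1,6,2,5,5,3],
  [1,0,4,1,0,6,1,6,2,1,1,5,4,2,1,3],
  [1,0,4,1,0,5,1,2,6,1,5,3,5,1,1],
  [1,0,4,1,0,5,5,2,1,6,4,1,2,1,5,4,1,3,2,1],
  [3,0,3,0,2,1,1,6,5,1,5,5,1,2,1],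
  [0,3,1,0,5,3,6,4,5,1,5,5],
  [1,0,4,1,0,1,2,1,6,1,5,1,5,3,2,1],
  [3,0,3,0,6,3,1,6,5,5,1,5,4,2,1,2,1],
  [0,3,1,0,3,2,6,3,1,5,3,2,1],
  [4,2,6,1,3,2,1,5,1,4,1,1],
  [3,0,3,0,2,5,1,2,6,5,1,3,5,3,1,2],
  [3,2,1,0,0,1,6,1,6,1,5,1,5,1,4,2,1,2,1],
  [1,5,1,6,3,5,1,4,1],
  [0,5,0,0,0,5,2,1,6,5,4,5,5,4,3,1,2,1],
  [0,3,1,0,5,6,4,6,5,4,3,2,1],
  [0,3,1,0,1,4,1,6,4,5,1,5,5,1,4,2,1,3,2],
  [3,0,3,0,6,5,1,5,5,3],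
  [5,5,1,0,0,1,2,6,4,5,2,1,5,1,4],
  [0,5,0,0,0,6,1,4,1,6,5,1,3,5,4,1,3],
  [0,3,1,0,5,6,1,4,1,6,1,1,5,5,4,3,1,2,1],
  [0,3,5,0,5,5,3,6,5,1,1,5,1,4,2,1,2,1,1],
  [3,0,3,0,4,5,1,2,6,5,5,2,1,5,1,4,2,1,1],
  [3,2,1,0,0,2,5,1,2,6,1,1,5,2],
  [5,3,1,6,1,4,1,2],
  [1,0,4,1,0,6,5,3,5,1,4,2,1,2,1,1,1],
  [5,5,3,6,5,1,5,4,2,1],
  [0,3,5,0,6,2,1,6,1,4,2,1,2],
  [0,3,1,0,5,6,1,4,1,6,5,5,4,5,5,4,2,1],
  [5,5,1,0,0,5,4,3,2,6,1,5,5,1,5,1,4,3,2],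
  [1,0,4,1,0,5,1,2,6,1,5,3,5,1,4,3,1,2],
  [0,5,0,0,0,6,1,4,1,6,4,1,2,1,5,4,1,1,1],
  [0,5,0,0,0,5,6,1,6,2,5,3,1,5,2,1,3,2,1],
  [3,0,3,0,6,1,2,6,3,5,1,2,1],
  [3,2,1,0,0,5,3,6,5,1,2,5,4,1],
  [5,5,1,0,0,1,6,1,3,5,1,4,2],
  [3,0,3,0,6,1,5,1,6,3,5,5,3,2,1,2,1],
  [3,2,1,0,0,6,2,1,6,3,1,5,1,2,1,1,1],
  [5,5,1,0,0,5,4,3,2,6,4,1,2,5,4,3,2,1,2],
  [0,3,1,0,1,4,1,6,1,3,5,4,3],
  [1,5,1,6,1,5,5,1,5,3,1,1],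
  [1,0,4,1,0,6,1,4,1,6,4,5,1,5,1,4,2,1,2,1],
  [3,2,1,0,0,5,2,1,1,6,2,1,1,5,4,3,1],
  [5,1,1,6,3],
  [0,5,0,0,0,4,6,1,6,1,2,1,5,4,1,1,1],
  [0,3,1,0,2,6,4,6,1,3,5,1,4,3,2,1,1],
  [0,3,1,0,5,6,4,6,5,4,3,1],
  [3,2,1,0,0,2,5,1,2,6,1,1,5,2,1,2,1,1,1],
  [5,5,1,0,0,1,6,1,6,3,5,1,4,3,2,1],
  [3,0,3,0,4,5,1,2,6,2,1,1,1,5,1],
  [5,5,1,0,0,3,2,1,6,5,5,1,4,3],
  [1,0,4,1,0,6,1,4,1,6,4,5,1,5,4,3,2,1,1],
  [0,5,0,0,0,1,6,4,5,3,1,5,1,4,1,2],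
  [6,3,1,6,1,4,1,3,2],
  [0,3,5,0,5,3,6,1,2,1,5,4,1,2],
  [5,5,1,0,0,1,6,1,6,1,5,5,1,5],
  [3,0,3,0,6,5,2,1,6,5,5,4,5,5,2,1,1,1],
  [5,1,1,6,2,5,1,5,1,3,2,1],
  [0,3,5,0,5,5,3,6,5,1,1,5,1,4,1,2,1,1],
  [0,3,5,0,2,6,1,6,4,1,2,1,5,1,1,1],
  [0,5,0,0,0,5,6,1,6,2,1,5,3,1,1],
  [5,5,1,0,0,1,5,1,6,5,5,2,1,5,4,1,3,2,1],
  [1,0,4,1,0,6,1,5,5,1,5,4,1,3,2],
  [0,5,0,0,0,5,5,1,1,6,5,3,2,1,5,3,1],
  [3,0,3,0,6,5,2,1,6,2,1,1,5,4,1,1],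
  [0,3,1,0,4,6,2,1,1,1,5,4,1,2,1],
  [5,5,3,6,5,1,5,4,1],
  [1,0,4,1,0,2,6,1,2,1,5,1,4,1,2,1,1],
  [3,2,1,0,0,2,5,1,2,6,1,3,5,1,4,2,1,1,1],
  [0,5,0,0,0,5,2,1,6,5,4,5,5,1,4,1,1],
  [0,3,1,0,5,6,4,6,5,2,1,2],
  [0,3,1,0,1,4,1,6,4,5,1,5,5,3,1,1],
  [0,3,5,0,6,1,2,1,5,1,4,1,3],
  [0,3,5,0,6,2,1,6,3],
  [3,0,3,0,6,3,1,6,5,1,1,5,1,4,2,1,2,1],
  [3,2,1,0,0,5,3,6,2,1,1,5,4,2,1,2],
  [1,5,1,6,3,5,3,2],
  [5,5,1,0,0,1,6,1,6,1,5,5,1,5,1,4,1,2,1,1],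
  [0,3,5,0,2,6,1,6,4,1,2,1,5,4,1,2,1,1],
  [1,0,4,1,0,1,1,6,5,3,5,4,3,1,2],
  [3,0,3,0,2,5,1,2,6,3,1,1,5,2,1,2,1,1],
  [5,5,1,0,0,1,2,6,5,1,1,5,1,3],
  [5,5,1,0,0,4,6,2,1,5,4,3,2],
  [0,3,5,0,4,1,6,4,1,2],
  [3,2,1,0,0,1,1,6,1,5,1,5,1,4,2,1,1],
  [1,0,4,1,0,5,5,2,1,6,4,1,2,1,5,1,4,3,1,1],
  [0,5,0,0,0,4,1,6,1,5,1,5,1,2],
  [3,0,3,0,6,1,5,1,6,4,5,1,5,4,1,1,1],
  [3,2,1,0,0,5,6,1,4,1,6,2,1,2,5,1],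
  [3,2,1,0,0,6,2,1,6,4,5,1,5,4,2,1],
  [3,2,1,0,0,5,2,6,1,1,5,5,2,1,1],
  [5,5,1,0,0,1,2,6,5,1,1,5,4,1,3,2],
  [0,3,5,0,4,1,6,3,1],
  [3,2,1,0,0,5,3,6,2,1,1,5,3,2,1],
  [5,5,1,0,0,5,6,1,4,1,6,2,5,5,1,4,2,1,2],
  [0,3,5,0,6,2,1,6,1,4,1,2],
  [0,5,0,0,0,5,6,1,6,2,5,3,1,5,3,2],
  [5,5,1,0,0,4,6,4,1,2,5,4,2,1,1],
  [1,0,4,1,0,5,5,2,1,6,5,5,1,5,1,4,2,1],
  [0,5,0,0,0,4,1,6,1,3,5,4,3,2,1,1],
  [5,3,1,6,2,5,1,5,1,4,1,2],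
  [0,3,5,0,2,1,6,5,1,5,1,4,3,2,1],
  [0,3,5,0,6,1,2,1,5,3,2,1,2,1],
  [5,5,1,0,0,1,5,1,6,1,5,5,4,1,3],
  [3,0,3,0,6,5,1,5,5,1,3,2,1],
  [6,3,1,6,4,5,3,1,5,4,1],
  [0,3,5,0,5,3,6,4,5,1,5,5,1,3,2,1],
  [0,3,1,0,5,6,4,6,2,1,2,5,4,2,1,2,1],
  [5,5,1,0,0,3,2,1,6,5,3,2,1,5,4,2,1,3,2],
  [1,0,4,1,0,6,1,4,1,6,5,5,1,1,5,4,3,2,1],
  [0,5,0,0,0,1,6,3,1,5,4,1,1,1],
  [3,2,1,0,0,1,6,1,6,1,5,1,5,1,4,2,1,1],
  [0,5,0,0,0,5,5,1,1,6,4,5,5,1,4,3,1,2],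
  [0,3,1,0,5,3,6,1,3,5,4,1,2,1],
  [0,3,5,0,5,3,6,1,2,1,5,3,1],
  [3,0,3,0,2,5,1,2,6,3,1,1,5,4,1,1,1],
  [3,2,1,0,0,6,2,1,6,4,5,1,5,3,1,2],
  [6,3,1,6,3,1,1],
  [3,6,1,1,5,5,1,4,1,2,1,1],
  [3,2,1,0,0,5,2,6,1,1,1,5,1,4,3,2,1,2],
  [3,0,3,0,4,5,1,2,6,2,1,1,1,5,4,3,1,2],
  [1,5,1,6,1,5,5,1,5,1,4,1,3,2],
  [0,5,0,0,0,4,1,6,1,3,5,1,4,2,1,2,1],
  [3,0,3,0,2,1,1,6,1,3,2,5,4,1,3,2,1],
  [1,0,4,1,0,1,2,1,6,1,2,1,5,1,3,2],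
  [3,0,3,0,6,3,1,6,5,5,1,5,1,4,2,1,2,1,1,1],
  [4,2,6,1,3,2,1,5,4,3,1,2,1],
  [0,3,5,0,4,1,6,5,1,5,1,5,4,1,3],
  [0,3,1,0,2,6,4,6,1,3,5,4,2,1,3,2,1],
  [1,0,4,1,0,2,6,5,4,5,5,4,2,1,2,1,1,1],
  [0,5,0,0,0,6,1,4,1,6,4,1,2,1,5,1,2,1,1],
  [3,0,3,0,6,1,5,1,6,3,5,5,1,4,1,3],
  [0,3,1,0,2,6,4,6,5,5,1,1,1],
  [1,0,4,1,0,1,2,1,6,1,5,1,5,4,1,2],
  [0,3,1,0,5,6,1,4,1,6,5,5,4,5,5,3,2,1,2],
  [4,5,3,1,5,1,2],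
  [0,3,5,0,6,1,2,6,2,1,5,4,1,2,1,1],
  [3,2,1,0,0,2,5,1,2,6,1,3,5,2],
  [3,6,2,1,2,5,1,4,2,1,3],
  [0,3,1,0,2,6,1,6,4,1,2,1,5,4,2,1],
  [0,3,1,0,4,6,4,5,1,5,5,1,4,3,2,1],
  [1,0,4,1,0,5,1,2,6,1,5,3,5,1,4,3,2,1,2],
  [3,0,3,0,2,1,1,6,5,1,5,5,1,4,3,1,2],
  [5,5,1,0,0,5,4,3,2,6,1,5,5,1,5,1,4,2,1,3,2,1],
  [0,3,5,0,6,1,2,6,3,5,4,3,1,2,1],
  [0,5,0,0,0,4,6,1,6,1,5,1,5,4,3,2,1,2],
  [1,0,4,1,0,6,1,6,5,1,3,5,1,1,1],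
  [0,5,0,0,0,1,6,4,6,5,1,5,2,1,2],
  [5,5,1,0,0,1,6,5,5,4,1,3,2],
  [0,5,0,0,0,6,1,4,1,6,4,1,2,1,5,4,2,1,1,1],
  [3,0,3,0,4,5,1,2,6,5,5,2,1,5,1,4,2,1,2,1],
  [3,0,3,0,6,1,2,6,4,2,5,5,4,2,1,2,1,1,1],
  [0,3,5,0,5,5,3,6,4,2,5,5,3,1,2],
  [0,5,0,0,0,1,6,4,5,3,1,5,3],
  [3,2,1,0,0,1,6,1,6,3,5,5,4,3,1,2],
  [0,3,1,0,2,6,1,6,3,1,1,5,1,2],
  [5,3,1,6,2,5,1,5,3],
  [3,2,1,0,0,1,6,1,6,3,5,5,1],
  [3,0,3,0,6,1,3,2,5,1,4],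
  [5,5,1,0,0,4,6,2,1,5,1,4,3,2,1,2,1],
  [3,2,1,0,0,5,2,1,1,6,4,5,5,1,1,1],
  [1,0,4,1,0,1,1,6,5,3,5,1],
  [5,5,3,6,3,5,1,4,3,2],
  [5,3,1,6,1,4,2,1,2],
  [1,0,4,1,0,6,5,3,5,1,4,2],
  [0,3,1,0,3,2,6,3,1,5,4,1,2],
  [3,2,1,0,0,1,1,6,1,5,1,5,4,3,2,1,2,1],
  [0,5,0,0,0,5,6,1,6,2,5,3,1,5,1,4,2,1],
  [0,5,0,0,0,6,1,4,1,6,5,1,3,5,4,2,1,3],
  [0,3,5,0,2,1,6,5,1,5,2,1,1],
  [1,0,4,1,0,5,5,2,1,6,5,5,1,5,2,1,3,2,1],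
  [5,5,1,0,0,1,6,1,6,1,5,5,1,5,1,2,1,1,1],
  [0,5,0,0,0,5,5,1,1,6,5,3,2,1,5,3,2,1],
  [1,5,1,6,3,5,2,1,3,2,1],
  [5,5,1,0,0,1,5,1,6,1,5,5,4,2,1,3],
  [3,2,1,0,0,5,6,1,4,1,6,2,1,2,5,2,1],
  [5,5,1,0,0,1,6,1,3,5,4,2,1,1],
  [0,5,0,0,0,1,6,4,6,5,1,5,1,2],
  [0,3,1,0,5,3,6,1,3,5,1,4],
  [0,3,5,0,5,3,6,1,2,1,5,4,2,1,2],
  [3,2,1,0,0,5,2,1,1,6,2,1,1,5,1,2],
  [4,5,3,1,5,2,1,2],
  [5,5,1,0,0,5,6,1,4,1,6,3,5,2,1,5,2,1,2,1,1,1],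
  [0,3,5,0,5,3,6,4,5,1,5,5,3],
  [3,2,1,0,0,5,6,1,4,1,6,5,3,2,1,5,4,2],
  [0,3,5,0,6,1,2,6,2,1,5,2,1,1,1],
  [0,5,0,0,0,4,6,1,6,1,2,1,5,1,2,1,1],
  [0,3,1,0,2,6,4,6,1,3,5,1,4,3,2,1,2,1],
  [1,0,4,1,0,2,6,5,4,5,5,1,4,2,1,3,2,1],
  [0,5,0,0,0,5,6,1,6,2,1,5,3,1,2,1],
  [0,3,5,0,2,1,6,2,5,1,5,2,1,1],
  [0,3,5,0,6,1,3,2,5,3,2,1,2,1],
  [3,2,1,0,0,1,1,6,1,5,1,5,1,4,2,1,2,1],
  [5,5,1,0,0,1,5,1,6,5,5,2,1,5,1,4,3,1,1],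
  [3,0,3,0,6,1,2,6,4,2,5,5,1,4,2,1,3,2,1],
  [0,3,1,0,2,6,4,6,5,5,2,1,1,1],
  [6,3,1,6,4,5,3,1,5,4,2,1],
  [3,2,1,0,0,5,3,6,2,1,1,5,4,1,2],
  [3,6,1,1,5,5,1,2,1,1,1],
  [3,0,3,0,6,1,5,1,6,3,5,5,1,4,2,1,3],
  [4,5,3,1,5,4,3,1],
  [5,5,1,0,0,1,6,1,6,3,5,1,4,3,1],
  [5,5,1,0,0,4,6,2,1,5,1,4,3,2,1,1],
  [0,3,1,0,2,6,1,6,3,1,1,5,4,3,1],
  [5,3,1,6,2,5,1,5,1,4,2,1,2],
  [1,0,4,1,0,6,1,5,5,1,5,2,1,3],
  [0,3,5,0,2,1,6,5,1,5,2,1,2,1],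
  [0,5,0,0,0,5,2,1,6,5,4,5,5,1,4,1,2,1],
  [1,0,4,1,0,6,1,5,5,1,5,4,2,1,3,2],
  [5,5,1,0,0,1,2,6,5,1,1,5,4,2,1,3,2],
  [3,0,3,0,2,5,1,2,6,3,1,1,5,1,2,1,1],
  [1,0,4,1,0,6,1,4,1,6,5,5,1,1,5,4,3,1],
  [3,2,1,0,0,6,2,1,6,4,5,1,5,3,2,1,2],
  [0,5,0,0,0,4,1,6,1,5,1,5,4,3,1],
  [0,5,0,0,0,5,2,1,6,1,3,2,5,1,4,2,1,3,2],
  [3,2,1,0,0,5,2,6,1,1,1,5,1,1],
  [0,3,5,0,4,1,6,5,1,5,1,5,4,2,1,3],
  [1,0,4,1,0,1,1,6,5,3,5,4,3,2,1,2],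
  [4,2,6,1,3,2,1,5,4,3,1,1],
  [1,4,1,2,1,1],
  [0,3,1,0,5,6,4,6,5,1,2],
  [0,3,1,0,3,2,6,5,3,2,1,5,4,2,1,1,1],
  [0,3,5,0,2,6,1,6,2,1,1,5,1,1,1],
  [5,1,1,6,1,3,2,1],
  [0,3,5,0,2,1,6,5,1,5,1,4,3,1],
  [5,5,1,0,0,4,6,2,1,5,4,2,1,3,2,1],
  [0,3,5,0,6,2,1,6,2,5,1,5,1,4,2,1,2],
  [0,3,1,0,1,4,1,6,4,5,1,5,5,1,4,1,3,2],
  [0,5,0,0,0,5,2,1,6,5,4,5,5,4,3,1,1],
  [0,3,1,0,2,6,1,6,3,1,1,5,4,3,2,1],
  [3,0,3,0,6,1,2,6,4,2,5,5,1,4,3,2]]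

/-- Its generators. -/
def sylGens : List (List ℕ) := [[0,5,0,0,0,6,1,4,1,6,5,1,3,5,1,3,2],
  [0,3,1,0,5,6,1,4,1,6,1,1,5,5,1,4,1,1],
  [0,3,1,0,2,6,1,6,4,1,2,1,5,3,1,2]]

/-- The products. -/
def sylNext : List (List ℕ) := [[1,2,3],
  [0,4,5],
  [6,7,8],
  [9,10,11],
  [12,13,14],
  [15,16,17],
  [2,18,19],
  [20,21,22],
  [23,24,25],
  [3,26,27],
  [28,29,30],
  [17,25,31],
  [4,32,33],
  [34,35,36],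
  [37,38,39],
  [5,40,41],
  [42,43,44],
  [11,39,45],
  [46,47,48],
  [49,50,51],
  [7,52,53],
  [54,55,56],
  [57,58,59],
  [8,5,60],
  [61,62,63],
  [51,59,64],
  [65,66,67],
  [68,69,70],
  [10,71,72],
  [73,74,75],
  [76,77,78],
  [70,78,0],
  [79,80,81],
  [82,83,84],
  [13,85,86],
  [87,88,89],
  [90,91,92],
  [14,3,93],
  [94,95,96],
  [84,92,97],
  [98,99,100],
  [101,102,103],
  [16,104,105],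
  [106,107,108],
  [109,110,111],
  [103,111,1],
  [18,100,112],
  [85,113,26],
  [104,114,79],
  [19,115,116],
  [117,118,119],
  [25,79,120],
  [80,1,121],
  [122,123,124],
  [21,125,126],
  [88,127,128],
  [129,130,131],
  [22,19,132],
  [133,134,135],
  [124,131,136],
  [137,138,139],
  [24,140,141],
  [142,143,144],
  [96,93,145],
  [139,145,2],
  [26,112,146],
  [147,148,149],
  [150,151,152],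
  [27,153,15],
  [135,132,154],
  [31,152,101],
  [81,14,155],
  [156,157,158],
  [29,159,160],
  [161,162,163],
  [108,105,164],
  [30,27,165],
  [166,167,168],
  [158,164,169],
  [32,67,170],
  [52,171,40],
  [71,172,46],
  [33,173,174],
  [175,176,177],
  [39,46,178],
  [47,0,179],
  [180,181,182],
  [35,183,184],
  [55,185,186],
  [187,188,189],
  [36,33,190],
  [191,192,193],
  [182,189,194],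
  [195,196,197],
  [38,198,199],
  [200,201,202],
  [63,60,203],
  [197,203,4],
  [40,170,204],
  [205,206,207],
  [208,209,210],
  [41,211,9],
  [193,190,212],
  [45,210,68],
  [48,8,213],
  [214,215,216],
  [43,217,218],
  [219,220,221],
  [75,72,222],
  [44,41,223],
  [224,225,226],
  [216,222,227],
  [228,212,32],
  [229,230,231],
  [232,233,69],
  [226,223,171],
  [234,235,236],
  [50,237,238],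
  [239,240,241],
  [242,243,244],
  [236,244,6],
  [237,245,208],
  [53,246,247],
  [248,249,225],
  [59,208,250],
  [209,6,251],
  [252,253,254],
  [230,34,255],
  [256,257,258],
  [56,53,259],
  [260,261,262],
  [254,258,263],
  [264,265,266],
  [58,267,268],
  [269,270,215],
  [69,213,271],
  [266,271,7],
  [60,207,49],
  [262,259,272],
  [64,45,234],
  [210,48,273],
  [274,275,276],
  [62,205,277],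
  [278,219,279],
  [241,238,280],
  [276,280,281],
  [282,283,198],
  [66,37,284],
  [285,286,275],
  [235,273,287],
  [67,11,288],
  [183,289,173],
  [198,287,47],
  [290,291,172],
  [217,292,211],
  [213,44,228],
  [72,293,294],
  [295,296,297],
  [78,228,298],
  [212,9,299],
  [300,301,253],
  [74,302,185],
  [286,200,55],
  [303,304,305],
  [253,305,306],
  [307,260,308],
  [77,193,309],
  [310,311,312],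
  [173,288,313],
  [308,313,10],
  [314,154,18],
  [315,316,317],
  [318,319,102],
  [168,165,113],
  [320,321,322],
  [83,323,324],
  [325,326,327],
  [328,329,330],
  [322,330,12],
  [323,331,150],
  [86,332,333],
  [334,335,167],
  [92,150,336],
  [151,12,337],
  [338,339,340],
  [316,20,341],
  [342,343,344],
  [89,86,345],
  [346,347,348],
  [340,344,349],
  [350,351,352],
  [91,353,354],
  [355,356,157],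
  [102,155,357],
  [352,357,13],
  [93,149,82],
  [348,345,358],
  [97,31,320],
  [152,81,359],
  [360,361,362],
  [95,147,363],
  [364,161,365],
  [327,324,366],
  [362,366,367],
  [368,369,140],
  [99,23,370],
  [371,372,361],
  [321,359,373],
  [100,17,374],
  [125,375,115],
  [140,373,80],
  [376,377,114],
  [159,378,153],
  [155,30,314],
  [105,379,380],
  [381,382,383],
  [111,314,384],
  [154,15,385],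
  [386,387,339],
  [107,388,127],
  [372,142,88],
  [389,390,391],
  [339,391,392],
  [393,346,394],
  [110,135,395],
  [396,397,398],
  [115,374,399],
  [394,399,16],
  [112,97,400],
  [113,84,401],
  [127,402,332],
  [353,403,151],
  [114,103,404],
  [388,338,379],
  [116,405,23],
  [149,146,99],
  [120,317,137],
  [121,22,406],
  [407,408,335],
  [118,409,351],
  [336,410,350],
  [144,141,411],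
  [119,116,412],
  [413,386,414],
  [335,411,369],
  [415,416,138],
  [414,412,375],
  [377,109,326],
  [123,417,382],
  [330,418,381],
  [326,398,20],
  [417,325,315],
  [126,364,387],
  [164,318,386],
  [131,315,419],
  [391,420,421],
  [128,126,422],
  [366,423,424],
  [344,421,162],
  [425,426,356],
  [130,427,428],
  [357,168,408],
  [138,406,429],
  [356,429,21],
  [132,394,122],
  [424,422,430],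
  [136,120,377],
  [317,121,110],
  [385,108,347],
  [134,393,328],
  [349,336,431],
  [347,383,376],
  [409,334,405],
  [406,119,98],
  [141,432,94],
  [433,434,435],
  [145,98,360],
  [436,437,343],
  [143,438,402],
  [365,363,439],
  [343,439,440],
  [367,320,24],
  [146,367,323],
  [441,389,83],
  [370,144,423],
  [148,362,396],
  [162,419,442],
  [423,435,321],
  [418,358,85],
  [421,443,410],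
  [153,400,91],
  [333,436,90],
  [420,444,445],
  [445,385,378],
  [403,352,446],
  [157,354,117],
  [432,447,416],
  [412,129,407],
  [446,407,28],
  [354,448,318],
  [160,425,106],
  [431,328,444],
  [319,28,449],
  [163,160,427],
  [405,368,130],
  [341,128,413],
  [392,384,29],
  [165,90,156],
  [169,101,403],
  [401,349,437],
  [167,333,438],
  [397,424,143],
  [416,117,450],
  [437,450,353],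
  [170,64,451],
  [171,51,452],
  [185,453,246],
  [267,454,209],
  [172,70,455],
  [302,252,293],
  [174,456,37],
  [207,204,66],
  [178,231,195],
  [179,36,457],
  [458,459,249],
  [176,460,265],
  [250,461,264],
  [202,199,462],
  [177,174,463],
  [464,300,465],
  [249,462,283],
  [466,467,196],
  [465,463,289],
  [291,76,240],
  [181,468,296],
  [244,469,295],
  [240,312,34],
  [468,239,229],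
  [184,278,301],
  [222,232,300],
  [189,229,470],
  [305,471,472],
  [186,184,473],
  [280,474,475],
  [258,472,220],
  [476,477,270],
  [188,478,479],
  [271,226,459],
  [196,457,480],
  [270,480,35],
  [190,308,180],
  [475,473,481],
  [194,178,291],
  [231,179,77],
  [299,75,261],
  [192,307,242],
  [263,250,482],
  [261,297,290],
  [460,248,456],
  [457,177,65],
  [199,483,61],
  [484,485,486],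
  [203,65,274],
  [487,488,257],
  [201,489,453],
  [279,277,490],
  [257,490,491],
  [281,234,38],
  [204,281,237],
  [492,303,50],
  [284,202,474],
  [206,276,310],
  [220,470,493],
  [474,486,235],
  [469,272,52],
  [472,494,461],
  [211,451,58],
  [247,487,57],
  [471,495,496],
  [496,299,292],
  [454,266,497],
  [215,268,175],
  [483,498,467],
  [463,187,458],
  [497,458,42],
  [268,499,232],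
  [218,476,73],
  [482,242,495],
  [233,42,500],
  [221,218,478],
  [456,282,188],
  [255,186,464],
  [306,298,43],
  [223,57,214],
  [227,68,454],
  [452,263,488],
  [225,247,489],
  [311,475,201],
  [467,175,501],
  [488,501,267],
  [451,227,71],
  [309,481,183],
  [494,54,502],
  [294,503,76],
  [459,479,217],
  [304,482,245],
  [273,63,469],
  [238,484,192],
  [455,306,191],
  [272,49,504],
  [478,269,230],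
  [481,180,505],
  [297,294,492],
  [243,262,74],
  [246,452,303],
  [245,236,485],
  [312,309,484],
  [251,56,224],
  [288,194,282],
  [495,73,54],
  [292,216,477],
  [289,182,219],
  [493,310,286],
  [287,197,498],
  [265,224,200],
  [259,492,252],
  [477,464,302],
  [461,251,243],
  [504,241,503],
  [503,191,304],
  [462,466,487],
  [301,500,187],
  [296,504,206],
  [275,284,248],
  [499,497,460],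
  [489,256,483],
  [277,493,239],
  [313,290,468],
  [486,61,506],
  [502,255,311],
  [505,295,62],
  [283,195,269],
  [473,506,256],
  [453,254,278],
  [470,502,476],
  [293,455,233],
  [298,496,307],
  [498,491,205],
  [485,505,260],
  [500,221,471],
  [506,279,181],
  [400,169,104],
  [395,430,125],
  [443,87,507],
  [380,508,109],
  [408,428,159],
  [390,431,331],
  [359,96,418],
  [324,433,134],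
  [404,392,133],
  [358,82,509],
  [427,355,316],
  [430,122,510],
  [383,380,441],
  [329,348,107],
  [332,401,389],
  [331,322,434],
  [398,395,433],
  [337,89,166],
  [374,136,368],
  [444,106,87],
  [378,158,426],
  [375,124,161],
  [442,396,372],
  [373,139,447],
  [351,166,142],
  [345,441,338],
  [426,413,388],
  [410,337,329],
  [509,327,508],
  [508,133,390],
  [411,415,436],
  [387,449,129],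
  [382,509,148],
  [361,370,334],
  [448,446,409],
  [438,342,432],
  [363,442,325],
  [399,376,417],
  [435,94,511],
  [507,341,397],
  [510,381,95],
  [369,137,355],
  [422,511,342],
  [402,340,364],
  [419,507,425],
  [379,404,319],
  [384,445,393],
  [447,440,147],
  [434,510,346],
  [449,163,420],
  [511,365,123],
  [439,371,443],
  [429,414,448],
  [428,156,415],
  [440,360,118],
  [450,350,371],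
  [490,285,494],
  [480,465,499],
  [479,214,466],
  [491,274,176],
  [501,264,285]]

/-- The tree. -/
def sylTree : List (ℕ × ℕ) := [(0,0),(0,0),(0,1),(0,2),(1,1),(1,2),(2,0),(2,1),(2,2),(3,0),(3,1),(3,2),(4,0),(4,1),(4,2),(5,0),(5,1),(5,2),(6,1),(6,2),(7,0),(7,1),(7,2),(8,0),(8,1),(8,2),(9,1),(9,2),(10,0),(10,1),(10,2),(11,2),(12,1),(12,2),(13,0),(13,1),(13,2),(14,0),(14,1),(14,2),(15,1),(15,2),(16,0),(16,1),(16,2),(17,2),(18,0),(18,1),(18,2),(19,0),(19,1),(19,2),(20,1),(20,2),(21,0),(21,1),(21,2),(22,0),(22,1),(22,2),(23,2),(24,0),(24,1),(24,2),(25,2),(26,0),(26,1),(26,2),(27,0),(27,1),(27,2),(28,1),(28,2),(29,0),(29,1),(29,2),(30,0),(30,1),(30,2),(32,0),(32,1),(32,2),(33,0),(33,1),(33,2),(34,1),(34,2),(35,0),(35,1),(35,2),(36,0),(36,1),(36,2),(37,2),(38,0),(38,1),(38,2),(39,2),(40,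0),(40,1),(40,2),(41,0),(41,1),(41,2),(42,1),(42,2),(43,0),(43,1),(43,2),(44,0),(44,1),(44,2),(46,2),(47,1),(48,1),(49,1),(49,2),(50,0),(50,1),(50,2),(51,2),(52,2),(53,0),(53,1),(53,2),(54,1),(54,2),(55,1),(55,2),(56,0),(56,1),(56,2),(57,2),(58,0),(58,1),(58,2),(59,2),(60,0),(60,1),(60,2),(61,1),(61,2),(62,0),(62,1),(62,2),(63,2),(65,2),(66,0),(66,1),(66,2),(67,0),(67,1),(67,2),(68,1),(69,2),(71,2),(72,0),(72,1),(72,2),(73,1),(73,2),(74,0),(74,1),(74,2),(75,2),(76,2),(77,0),(77,1),(77,2),(78,2),(79,2),(80,1),(81,1),(82,1),(82,2),(83,0),(83,1),(83,2),(84,2),(85,2),(86,0),(86,1),(86,2),(87,1),(87,2),(88,1),(88,2),(89,0),(89,1),(89,2),(90,2),(91,0),(91,1),(91,2),(92,2),(93,0),(93,1),(93,2),(94,1),(94,2),(95,0),(95,1),(95,2),(96,2),(98,2),(99,0),(99,1),(99,2),(100,0),(100,1),(100,2),(101,1)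,(102,2),(104,2),(105,0),(105,1),(105,2),(106,1),(106,2),(107,0),(107,1),(107,2),(108,2),(109,2),(110,0),(110,1),(110,2),(111,2),(112,0),(113,0),(113,1),(113,2),(114,0),(114,1),(116,0),(116,1),(116,2),(117,1),(117,2),(118,0),(118,1),(118,2),(119,0),(119,1),(119,2),(121,1),(122,1),(122,2),(123,0),(123,1),(124,2),(125,2),(126,0),(126,1),(126,2),(127,2),(128,0),(128,1),(128,2),(129,2),(130,0),(130,1),(130,2),(131,2),(132,0),(132,1),(132,2),(133,1),(133,2),(134,0),(134,1),(135,2),(138,2),(140,2),(141,0),(141,1),(141,2),(142,2),(143,0),(143,2),(144,2),(145,2),(146,0),(146,1),(147,2),(148,0),(148,1),(149,2),(150,2),(151,1),(153,0),(153,1),(154,1),(156,1),(156,2),(157,0),(157,1),(157,2),(158,2),(159,2),(160,0),(160,1),(161,1),(163,0),(163,1),(163,2),(164,2),(165,0),(165,2),(166,2),(167,0),(167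,1),(167,2),(168,2),(170,0),(171,0),(171,1),(171,2),(172,0),(172,1),(174,0),(174,1),(174,2),(175,1),(175,2),(176,0),(176,1),(176,2),(177,0),(177,1),(177,2),(179,1),(180,1),(180,2),(181,0),(181,1),(182,2),(183,2),(184,0),(184,1),(184,2),(185,2),(186,0),(186,1),(186,2),(187,2),(188,0),(188,1),(188,2),(189,2),(190,0),(190,1),(190,2),(191,1),(191,2),(192,0),(192,1),(193,2),(196,2),(198,2),(199,0),(199,1),(199,2),(200,2),(201,0),(201,2),(202,2),(203,2),(204,0),(204,1),(205,2),(206,0),(206,1),(207,2),(208,2),(209,1),(211,0),(211,1),(212,1),(214,1),(214,2),(215,0),(215,1),(215,2),(216,2),(217,2),(218,0),(218,1),(219,1),(221,0),(221,1),(221,2),(222,2),(223,0),(223,2),(224,2),(225,0),(225,1),(225,2),(226,2),(228,2),(229,2),(230,1),(231,1),(232,2),(234,1),(237,2),(238,0),(238,1),(239,1),(240,1),(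241,2),(242,2),(243,0),(243,2),(245,0),(245,1),(248,1),(249,1),(254,2),(255,1),(255,2),(256,2),(257,1),(257,2),(259,0),(259,1),(260,1),(260,2),(262,2),(265,2),(270,2),(274,1),(275,0),(275,1),(275,2),(277,0),(277,1),(278,1),(279,2),(280,2),(283,0),(286,2),(289,1),(292,1),(292,2),(294,2),(296,1),(299,1),(302,2),(312,2),(314,2),(315,2),(316,1),(317,1),(318,2),(320,1),(323,2),(324,0),(324,1),(325,1),(326,1),(327,2),(328,2),(329,0),(329,2),(331,0),(331,1),(334,1),(335,1),(340,2),(341,1),(341,2),(342,2),(343,1),(343,2),(345,0),(345,1),(346,1),(346,2),(348,2),(351,2),(356,2),(360,1),(361,0),(361,1),(361,2),(363,0),(363,1),(364,1),(365,2),(366,2),(369,0),(372,2),(375,1),(378,1),(378,2),(380,2),(382,1),(385,1),(388,2),(398,2),(402,2),(403,1),(409,2),(411,2),(438,2),(453,2),(454,1),(460,2),(462,2),(489,2)]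

/-- Conjugating words. -/
def sylKinds : List (ℕ × List ℕ) := [(0, []),
  (0, [3,0,5,2,1,6,2,1,1,5,4]),
  (0, []),
  (0, []),
  (0, []),
  (0, []),
  (0, []),
  (0, []),
  (0, []),
  (0, []),
  (0, []),
  (1, []),
  (0, []),
  (1, [1,0,5,1]),
  (0, []),
  (0, []),
  (0, []),
  (0, [0,5,1,3,6,1,5,3,5,2,1,1]),
  (1, [3,2,1,0,0,3,2,6,5,1,4,1,1,1]),
  (0, []),
  (1, [4,2,6,4,0,0]),
  (0, []),
  (0, []),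
  (0, []),
  (0, []),
  (0, []),
  (0, []),
  (0, [6,5,5,1,5]),
  (0, []),
  (0, []),
  (0, []),
  (0, []),
  (0, []),
  (0, []),
  (0, []),
  (0, []),
  (0, []),
  (0, []),
  (0, []),
  (0, []),
  (0, []),
  (0, []),
  (0, []),
  (0, []),
  (0, []),
  (0, []),
  (0, []),
  (0, []),
  (0, []),
  (0, []),
  (0, []),
  (0, []),
  (0, []),
  (0, []),
  (0, []),
  (1, [3,1,6,3,1,1,5,1,4,3,2,1]),
  (0, []),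
  (0, []),
  (0, []),
  (0, []),
  (0, []),
  (0, []),
  (0, []),
  (1, [5,4,5,5,2]),
  (0, []),
  (0, []),
  (0, []),
  (0, []),
  (0, []),
  (0, []),
  (0, []),
  (0, []),
  (0, []),
  (0, []),
  (0, []),
  (0, []),
  (0, []),
  (1, [4,1,0,1,5,1,6,4,2,5,5,4,3]),
  (0, []),
  (1, [4,5,6,5]),
  (0, []),
  (0, []),
  (0, []),
  (0, []),
  (0, []),
  (0, []),
  (0, []),
  (0, []),
  (0, [2,6,3,1,5,4,1,3,2]),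
  (0, []),
  (0, []),
  (0, []),
  (1, [2,1,0,1,2,6,1,5,1,5,1,2,1,1]),
  (0, []),
  (0, []),
  (0, []),
  (0, [4,1,0,5,5,3,1,6,1,5,5,4,2,1,2,1]),
  (0, []),
  (0, []),
  (0, []),
  (0, []),
  (0, [1,0,3,5,3]),
  (0, []),
  (0, []),
  (0, []),
  (0, []),
  (0, []),
  (1, [3,0,4,2]),
  (0, []),
  (0, []),
  (0, []),
  (0, []),
  (0, []),
  (0, [5,0,5,0,6]),
  (0, []),
  (0, []),
  (0, []),
  (0, []),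
  (1, [3,1,0,5,3,2,1,6,5,3,1,5,3,2,1,2,1]),
  (0, []),
  (0, []),
  (0, []),
  (0, []),
  (1, [5,6,1,1]),
  (1, [2,0,5,0,5,4,6,3,5,1,5,2]),
  (0, [5,0,5,5,1]),
  (1, [4,6,1]),
  (0, []),
  (0, [5,0,5,1,2,6,4,1,2,1,5,1,4,2,1,1]),
  (0, []),
  (0, [3,0,5,1,2,6,3,1,5,4,1,3]),
  (0, []),
  (0, []),
  (0, []),
  (0, [5,0,5,1,3,6,1,3,2,5,2,1,3,2,1]),
  (0, []),
  (0, []),
  (0, []),
  (0, []),
  (0, []),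
  (0, []),
  (0, []),
  (0, []),
  (0, [5,2,6,4,1,2,5,4,2]),
  (0, []),
  (0, []),
  (0, []),
  (0, []),
  (0, []),
  (1, [6,3,1,6,2]),
  (0, []),
  (0, [1,5,1,2,1]),
  (0, []),
  (0, []),
  (0, []),
  (1, [3,1,0,0,4,2,6,1,4,1,2,1]),
  (0, []),
  (0, []),
  (0, []),
  (0, []),
  (1, [5,5,1,6,1,1,5,1,4,1,2,1]),
  (1, [6,4,3,1,0,0,5,3,2,1,6,5,1,5,1,5,1,4,1,2,1]),
  (0, [1,0,5,3,1,6,2,1,2,5,1,2,1,1]),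
  (0, []),
  (0, []),
  (0, []),
  (0, []),
  (0, []),
  (0, []),
  (0, []),
  (0, []),
  (0, []),
  (0, []),
  (0, []),
  (0, []),
  (0, []),
  (0, []),
  (0, []),
  (0, []),
  (0, []),
  (0, []),
  (0, []),
  (0, []),
  (0, []),
  (0, []),
  (0, []),
  (0, []),
  (0, []),
  (0, []),
  (0, []),
  (0, []),
  (0, []),
  (0, []),
  (0, []),
  (0, []),
  (0, []),
  (0, [1,5,1,6,1,4,2,1]),
  (0, []),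
  (0, []),
  (0, []),
  (0, []),
  (0, []),
  (0, []),
  (0, []),
  (0, []),
  (0, []),
  (0, []),
  (0, []),
  (0, []),
  (0, []),
  (0, []),
  (0, []),
  (0, []),
  (0, [5,0,0,1,3,6,2,5,5,4,3,2,1]),
  (0, []),
  (0, []),
  (0, []),
  (0, []),
  (0, []),
  (0, []),
  (0, []),
  (0, []),
  (0, []),
  (0, []),
  (1, [3,0,3,2,5]),
  (0, []),
  (0, []),
  (0, []),
  (0, []),
  (0, []),
  (0, []),
  (0, []),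
  (0, []),
  (0, []),
  (0, []),
  (0, []),
  (0, []),
  (0, []),
  (0, []),
  (0, []),
  (0, []),
  (0, []),
  (0, []),
  (0, []),
  (0, []),
  (0, []),
  (0, []),
  (0, []),
  (0, []),
  (0, []),
  (0, []),
  (0, []),
  (0, []),
  (0, []),
  (0, []),
  (0, []),
  (0, []),
  (0, []),
  (1, [0,5,0,0,0]),
  (0, []),
  (0, []),
  (0, []),
  (0, [1,5,5,1,5,4,2,1,2,1]),
  (0, []),
  (0, []),
  (0, []),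
  (0, []),
  (0, []),
  (0, []),
  (0, []),
  (0, []),
  (0, []),
  (0, []),
  (0, []),
  (0, []),
  (0, []),
  (0, []),
  (0, []),
  (0, []),
  (0, [1,0,1,6,3,1]),
  (0, []),
  (1, [2]),
  (0, []),
  (0, []),
  (0, []),
  (0, []),
  (0, []),
  (0, []),
  (0, []),
  (0, []),
  (0, []),
  (0, []),
  (0, []),
  (0, []),
  (0, []),
  (0, []),
  (0, []),
  (0, []),
  (0, []),
  (0, []),
  (0, []),
  (0, []),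
  (0, []),
  (0, []),
  (0, [5,3,0,5,5,4,5,5,1,4,2,1,2,1]),
  (0, []),
  (0, []),
  (0, []),
  (0, []),
  (0, []),
  (0, []),
  (0, [1,0,3,6,1,3,2,1,5,1,4,2,1,3,2,1]),
  (0, []),
  (1, [0,5,5,3,1]),
  (0, []),
  (0, [4,3,2,6,5,2,5,4,1]),
  (0, []),
  (0, []),
  (0, []),
  (0, []),
  (0, []),
  (1, [4,6,5,1]),
  (0, []),
  (0, []),
  (0, []),
  (1, [0,5,5,1]),
  (0, []),
  (0, []),
  (0, []),
  (0, []),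
  (0, []),
  (0, []),
  (0, []),
  (0, []),
  (1, [5,4]),
  (0, []),
  (0, []),
  (0, []),
  (1, [3,6,4,2]),
  (0, []),
  (0, []),
  (1, [4,1,0,5,4,3,2,6,1,5,5,1,5,4,3,2,1,1]),
  (0, [1,0,3,6,1,4,1,2,1,1]),
  (0, []),
  (0, [6,5,0,5,6,2]),
  (0, []),
  (0, [4,1,0,5,2,1,6,4,5,1,5,3,1,1]),
  (0, []),
  (0, []),
  (0, []),
  (0, []),
  (0, []),
  (0, []),
  (0, []),
  (0, []),
  (0, [5,1,5,5,3,2,1]),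
  (0, []),
  (0, []),
  (0, []),
  (0, []),
  (0, []),
  (0, []),
  (0, []),
  (0, []),
  (0, [5,5,4,2]),
  (1, [5,4,1,0,1,2,1,6,1,5,1,4,1,2]),
  (0, []),
  (0, [4,0,0,2,6,5,5,1,1,5,1,4]),
  (0, []),
  (0, []),
  (0, []),
  (0, []),
  (0, [6,5,0,5,2,1,6,4,5,1,5,4,3,1,1]),
  (0, []),
  (0, []),
  (0, []),
  (0, []),
  (0, []),
  (0, []),
  (0, []),
  (0, []),
  (0, []),
  (0, []),
  (0, [0,4,1,1,1]),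
  (0, []),
  (0, []),
  (1, [0,0,0,5,2,1,6,4,5,1,5,3,1,1]),
  (0, []),
  (0, []),
  (0, []),
  (0, []),
  (1, [0,5,6,5,5]),
  (0, []),
  (0, []),
  (0, []),
  (0, []),
  (0, []),
  (1, [0,3,1,0,0,4,3,2,6,3,5,1,5,4,3,2,1]),
  (1, [5,1,5,2]),
  (0, []),
  (1, [5,0,5,0,5,5,6,5,2,5,4,2,1]),
  (0, []),
  (1, [4,5,5]),
  (0, []),
  (0, []),
  (0, []),
  (0, []),
  (0, []),
  (0, []),
  (0, []),
  (0, []),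
  (1, [3,0,5,4,3,2,6,5,3,2,1,5,1,4,3,1,2]),
  (0, [6,3,0,5,1,6,2,1,3,5,4,3,1,2]),
  (0, []),
  (0, []),
  (0, []),
  (1, [5,1,3,6,4,1,2,1,5,2,1,2,1,1,1]),
  (0, []),
  (0, []),
  (1, [3,2,6,1]),
  (0, []),
  (0, []),
  (0, [0,6,1,5,2]),
  (0, []),
  (0, []),
  (0, []),
  (0, [0,5,5,1,6,5,1,3,5,4,3,2,1,2]),
  (0, []),
  (0, []),
  (0, [4,2,1,0,3]),
  (1, [3,1,0,5,1,3,6,4,1,2,1,5,1,4,2]),
  (0, []),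
  (0, []),
  (0, []),
  (0, []),
  (0, []),
  (0, []),
  (0, []),
  (0, []),
  (0, [3,0,3,2,1]),
  (0, []),
  (0, []),
  (0, [5,5,0,0,4,5,1,2,6,5,1,5,1,5,1,4,2,1,2]),
  (1, [1,0,4,6,4,6,1,4,2,1]),
  (1, [4,6,4,2]),
  (0, []),
  (0, []),
  (0, []),
  (0, []),
  (0, [6,5,1,5,1,1]),
  (0, []),
  (0, [6,3,6,3,1,5,1,4,3,1]),
  (0, []),
  (0, []),
  (0, []),
  (0, []),
  (0, [3,1,0,1,2,1]),
  (0, []),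
  (0, []),
  (0, []),
  (0, []),
  (0, []),
  (0, []),
  (0, []),
  (0, []),
  (0, []),
  (0, []),
  (0, []),
  (0, []),
  (0, []),
  (0, []),
  (0, []),
  (0, []),
  (0, []),
  (0, []),
  (0, []),
  (0, []),
  (1, [3,1,1]),
  (0, []),
  (1, [1,3,6,2,5]),
  (0, []),
  (0, []),
  (0, []),
  (0, []),
  (0, []),
  (1, [6,5,2,5,3,1]),
  (0, []),
  (0, []),
  (1, [3,1,0,5,4,6,2,5,1,5,3,1,2]),
  (0, []),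
  (0, []),
  (0, []),
  (0, []),
  (0, []),
  (0, []),
  (0, []),
  (0, []),
  (0, []),
  (0, []),
  (1, [5,5,6,5]),
  (1, [3,1,0,0,1,5,1,2,6,5,3,1,5,1,4,2,1,1]),
  (0, []),
  (0, []),
  (0, []),
  (1, [6,3,1,0,6,3,1,6,2,1]),
  (0, []),
  (0, []),
  (0, [1,0,4,5,5,1]),
  (0, [6,3,6,1,3,5,1,4,1,3]),
  (0, []),
  (0, []),
  (0, [])]

end Cfsg.Agent.HigSims.Out
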