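import Cfsg.Agent.LeechModel.Chunks
import Cfsg.Agent.HigSims.ModelData
import Cfsg.Agent.HigSims.OutTable
import Cfsg.Agent.HigSims.OutData

/-! Checks of the table. -/

set_option autoImplicit false
set_option maxRecDepth 100000
set_option maxHeartbeats 0

namespace Cfsg.Agent.HigSims

open Cfsg.Agent.Compute Cfsg.Agent.StemCert Cfsg.Agent.LeechModel

theorem key0 : Out.table.keyB 7 Out.powers Model.base 0 200 = true := by decide +kernel

theorem key1 : Out.table.keyB 7 Out.powers Model.base 200 400 = true := by decide +kernel

theorem key2 : Out.table.keyB 7 Out.powers Model.base 400 600 = true := by decide +kernel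

theorem key3 : Out.table.keyB 7 Out.powers Model.base 600 800 = true := by decide +kernel

theorem key4 : Out.table.keyB 7 Out.powers Model.base 800 1000 = true := by decide +kernel

theorem key5 : Out.table.keyB 7 Out.powers Model.base 1000 1200 = true := by decide +kernel

theorem key6 : Out.table.keyB 7 Out.powers Model.base 1200 1400 = true := by decide +kernel

theorem sorted_ok : Out.table.sortB = true := by decide +kernel

theorem key_all : ∀ j < Out.table.size, Out.table.keyB 7 Out.powers Model.base j (j + 1) = true := by
  refine Table.key_of_chunks (len := 200) (cnt := 7) (by decide +kernel) fun c hc => ?_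
  interval_cases c
  exacts [key0, key1, key2, key3, key4, key5, key6]

end Cfsg.Agent.HigSims
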