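import Cfsg.Agent.LeechModel.Chunks
import Cfsg.Agent.HigSims.ModelData
import Cfsg.Agent.HigSims.OutTable
import Cfsg.Agent.HigSims.OutData

/-! Checks of the table. -/

set_option autoImplicit false
set_option maxRecDepth 100000
set_option maxHeartbeats 0

namespace Cfsg.Agent.HigSims

open Cfsg.Agent.Compute Cfsg.Agent.StemCert Cfsg.Agent.LeechModel

theorem refute0 : Out.table.refuteB 100 7 Out.powers Out.conds [(0, 0), (0, 1)] 0 200 = true := by decide +kernel

theorem refute1 : Out.table.refuteB 100 7 Out.powers Out.conds [(0, 0), (0, 1)] 200 400 = true := by decide +kernel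

theorem refute2 : Out.table.refuteB 100 7 Out.powers Out.conds [(0, 0), (0, 1)] 400 600 = true := by decide +kernel

theorem refute3 : Out.table.refuteB 100 7 Out.powers Out.conds [(0, 0), (0, 1)] 600 800 = true := by decide +kernel

theorem refute4 : Out.table.refuteB 100 7 Out.powers Out.conds [(0, 0), (0, 1)] 800 1000 = true := by decide +kernel

theorem refute5 : Out.table.refuteB 100 7 Out.powers Out.conds [(0, 0), (0, 1)] 1000 1200 = true := by decide +kernel

theorem refute6 : Out.table.refuteB 100 7 Out.powers Out.conds [(0, 0), (0, 1)] 1200 1400 = true := by decide +kernel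

theorem refute_all : ∀ j < Out.table.size, Out.table.refuteB 100 7 Out.powers Out.conds [(0, 0), (0, 1)] j (j + 1) = true := by
  refine Table.refute_of_chunks (len := 200) (cnt := 7) (by decide +kernel) fun c hc => ?_
  interval_cases c
  exacts [refute0, refute1, refute2, refute3, refute4, refute5, refute6]

end Cfsg.Agent.HigSims
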