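import Cfsg.Agent.LeechModel.OutCert
import Cfsg.Agent.LeechModel.Involutions
import Cfsg.Agent.HigSims.Model
import Cfsg.Agent.HigSims.OutLink
import Cfsg.Agent.HigSims.OutKey
import Cfsg.Agent.HigSims.OutRefute

/-!
Two classes of involutions and an outer automorphism group of order two.
-/

set_option autoImplicit false
set_option maxRecDepth 100000
set_option maxHeartbeats 0

namespace Cfsg.Agent.HigSims

open Cfsg Cfsg.Agent.Compute Cfsg.Agent.StemCert Cfsg.Agent.LeechModel

/-- The involution. -/
noncomputable def tInv : ↥Spor.HS := evalW gen Out.tWord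

theorem cent_ok : commB 7 7 Model.codes Model.base Out.tWord Out.cent0Gens = true ∧
    wordsB 100 7 7 Model.codes Out.cent0Gens Out.cent0Codes 5 = true ∧
    Out.cent0Gens.length = 5 ∧ wfB Out.cent0Levels = true ∧ gensBelow 5 Out.cent0Levels = true ∧
    distinctB 7 Out.cent0Codes Out.cent0Levels Out.cent0Base = true ∧
    numForms Out.cent0Levels = 2880 := by
  refine ⟨?_, ?_, ?_, ?_, ?_, ?_, ?_⟩ <;> decide +kernel

theorem cent0_lt : ∀ b ∈ Out.cent0Base, b < 100 := by decide +kernel

theorem powers_ok : eqOn 7 Model.codes Model.base (List.replicate 11 0) [] = true ∧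
    allBelow 11 (fun m => allBelow 100 fun p => Nat.beq (getField 7 (Out.powers.getD m 0) p)
      (appW 7 Model.codes (List.replicate m 0) p)) = true := by
  refine ⟨?_, ?_⟩ <;> decide +kernel

theorem tWord_lt : ∀ s ∈ Out.tWord, s < 7 := by decide +kernel

theorem class_and_card :
    (∀ q, IsConj tInv q → ∃ j < Out.table.size, ∃ (m : ℕ) (r : ↥Spor.HS),
      m < 11 ∧ HasCode ι 7 r (Out.table.rep j) ∧ q = gen 0 ^ m * r * (gen 0 ^ m)⁻¹) ∧
      Nat.card (Subgroup.centralizer ({tInv} : Set ↥Spor.HS)) = 2880 := by
  obtain ⟨h1, h2, h3, h4, h5, h6, h7⟩ := cent_ok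
  exact Table.class_eq coded tWord_lt link_all
    (powCodes_of_check coded base_isBase 0 (by norm_num) powers_ok.1 powers_ok.2) base_lt key_all
    sorted_ok (by decide +kernel)
    (by rw [← h7]; exact le_card_centralizer coded base_isBase h1 h3.symm h2 h4 h5 cent0_lt h6)
    (by rw [card_hs, show Out.table.size = 1400 from rfl])

theorem card_centralizer : Nat.card (Subgroup.centralizer ({tInv} : Set ↥Spor.HS)) = 2880 :=
  class_and_card.2

/-- An involution of the other class. -/
noncomputable def uInv : ↥Spor.HS := evalW gen Out.uWord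

theorem cent1_ok : commB 7 7 Model.codes Model.base Out.uWord Out.cent1Gens = true ∧
    wordsB 100 7 7 Model.codes Out.cent1Gens Out.cent1Codes 5 = true ∧
    Out.cent1Gens.length = 5 ∧ wfB Out.cent1Levels = true ∧ gensBelow 5 Out.cent1Levels = true ∧
    distinctB 7 Out.cent1Codes Out.cent1Levels Out.cent1Base = true ∧
    numForms Out.cent1Levels = 7680 := by
  refine ⟨?_, ?_, ?_, ?_, ?_, ?_, ?_⟩ <;> decide +kernel

theorem cent1_lt : ∀ b ∈ Out.cent1Base, b < 100 := by decide +kernel

theorem syl_ok : (lettersB 7 Out.sylEls = true ∧ lettersB 7 Out.sylGens = true ∧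
    lettersB 7 [Out.tWord, Out.uWord] = true ∧ lettersB 7 (Out.sylKinds.map Prod.snd) = true) ∧
    Out.sylEls.length = 2 ^ 9 ∧ Out.sylEls.getD 0 [] = [] ∧
    (Out.sylEls.map (wordKey 7 Model.codes Model.base)).Nodup ∧
    allBelow 512 (syl2B 7 Model.codes Model.base Out.sylEls Out.sylGens Out.sylNext Out.sylTree
      Out.sylKinds [Out.tWord, Out.uWord]) = true := by
  refine ⟨⟨?_, ?_, ?_, ?_⟩, ?_, ?_, ?_, ?_⟩ <;> decide +kernel

theorem factorization_two : (Nat.card ↥Spor.HS).factorization 2 = 9 := by
  rw [card_hs, show (44352000 : ℕ) = 2 ^ 9 * 86625 by norm_num,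
    Nat.factorization_mul (by norm_num) (by norm_num), Finsupp.add_apply,
    Nat.Prime.factorization_pow Nat.prime_two, Finsupp.single_eq_same,
    Nat.factorization_eq_zero_of_not_dvd (by norm_num)]

/-- Every involution is conjugate to one of the two. -/
theorem conj_cases (q : ↥Spor.HS) (hq : orderOf q = 2) : IsConj tInv q ∨ IsConj uInv q := by
  obtain ⟨hl, hlen, h0, hnd, hall⟩ := syl_ok
  obtain ⟨u, hu, hc⟩ := involution_cases coded base_isBase factorization_two hl hlen h0 hnd
    (fun i hi => allBelow_eq_true.mp hall i (by rw [hlen] at hi; exact hi)) q hq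
  simp only [List.mem_cons, List.not_mem_nil, or_false] at hu
  rcases hu with rfl | rfl
  exacts [Or.inl hc, Or.inr hc]

theorem card_centralizer_u : 7680 ≤ Nat.card (Subgroup.centralizer ({uInv} : Set ↥Spor.HS)) := by
  obtain ⟨h1, h2, h3, h4, h5, h6, h7⟩ := cent1_ok
  rw [← h7]
  exact le_card_centralizer coded base_isBase h1 h3.symm h2 h4 h5 cent1_lt h6

theorem card_centralizer_map {G : Type*} [Group G] (φ : MulAut G) (a : G) :
    Nat.card (Subgroup.centralizer ({φ a} : Set G)) = Nat.card (Subgroup.centralizer ({a} : Set G)) :=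
  (Nat.card_congr (φ.toEquiv.subtypeEquiv fun g => by
    rw [Subgroup.mem_centralizer_singleton_iff, Subgroup.mem_centralizer_singleton_iff]
    show g * a = a * g ↔ φ g * φ a = φ a * φ g
    rw [← map_mul, ← map_mul, φ.injective.eq_iff])).symm

theorem outChecks : OutChecks 100 7 7 Model.codes Model.base Out.powers Model.levels Out.table
    Out.tWord Out.conds 0 1 0 Out.sigma Out.twisted Out.pairWords Out.cubeWord Out.siftDigits where
  kpos := by norm_num
  pow := powers_ok.1
  ne := by decide +kernel
  xcodes := powers_ok.2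
  norm := by decide +kernel
  twk := by decide +kernel
  size := by decide +kernel
  link := link_all
  refute := refute_all
  condk := by decide +kernel
  condt := by decide +kernel
  gwords := by decide +kernel
  perm := by decide +kernel
  normal := by decide +kernel
  twistX := by decide +kernel
  twistT := by decide +kernel
  sift := by decide +kernel
  cent := by decide +kernel

theorem orderOf_tInv : orderOf tInv = 2 := by
  have := Fact.mk Nat.prime_two
  refine orderOf_eq_prime ?_ fun e => ?_
  · have := eq_of_eqOn coded base_isBase (a := Out.tWord ++ Out.tWord) (b := [])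
      (fun s hs => (List.mem_append.mp hs).elim (tWord_lt s) (tWord_lt s)) (by simp)
      (show eqOn 7 Model.codes Model.base _ [] = true by decide +kernel)
    rwa [evalW_append, ← sq] at this
  · have h := card_centralizer
    rw [e] at h
    rw [show Subgroup.centralizer ({(1 : ↥Spor.HS)} : Set ↥Spor.HS) = ⊤ from
      eq_top_iff.mpr fun x _ => by rw [Subgroup.mem_centralizer_singleton_iff]; simp,
      Subgroup.card_top, card_hs] at h
    norm_num at h

theorem card_out : Nat.card (Cfsg.Out ↥Spor.HS) = 2 := by
  refine card_out_of_checks outChecks coded base_isBase levels_wf.1 levels_wf.2 levels_distinct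
    (levels_forms.trans card_hs.symm) (by rw [card_hs]; norm_num) class_and_card.1 fun φ => ?_
  rcases conj_cases (φ tInv) (by rw [MulEquiv.orderOf_eq]; exact orderOf_tInv) with h | h
  · exact h
  · obtain ⟨g, hg⟩ := isConj_iff.mp h
    have h1 : Nat.card (Subgroup.centralizer ({φ tInv} : Set ↥Spor.HS)) = 2880 := by
      rw [card_centralizer_map, card_centralizer]
    have h2 := card_centralizer_u
    rw [← card_centralizer_map (MulAut.conj g) uInv, show MulAut.conj g uInv = φ tInv from hg, h1] at h2
    norm_num at h2

end Cfsg.Agent.HigSims
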